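import Mathlib.Algebra.Category.ModuleCat.Ext.Basic
import Mathlib.Algebra.Homology.DerivedCategory.Ext.ExactSequences
import Mathlib.Algebra.Homology.DerivedCategory.Ext.Linear
import Mathlib.RingTheory.Ideal.AssociatedPrime.Finiteness
import Mathlib.RingTheory.Support
import Mathlib.RingTheory.Spectrum.Prime.Topology
import Mathlib.RingTheory.Spectrum.Prime.Noetherian
import Mathlib.RingTheory.LocalRing.ResidueField.Basic
import Mathlib.RingTheory.Localization.AtPrime.Basic
import Mathlib.Algebra.Module.FinitePresentation
import Mathlib.Algebra.Homology.ShortComplex.ModuleCat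
import Mathlib.RingTheory.Regular.LinearMap

/-!
# Dévissage for the vanishing of `Ext` in the first variable
-/

universe u

open CategoryTheory Abelian

namespace Groth.Agent.DepthLib

variable {R : Type u} [CommRing R] {G : ModuleCat.{u} R}

theorem shortExact_of_linearMap {A B C : Type u} [AddCommGroup A] [Module R A] [AddCommGroup B]
    [Module R B] [AddCommGroup C] [Module R C] {f : A →ₗ[R] B} {g : B →ₗ[R] C}
    (hf : Function.Injective f) (hg : Function.Surjective g) (hfg : Function.Exact f g) :
    (ShortComplex.mk (ModuleCat.ofHom f) (ModuleCat.ofHom g)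
      (by ext x; exact hfg.apply_apply_eq_zero x)).ShortExact where
  exact := by
    rw [ShortComplex.moduleCat_exact_iff_range_eq_ker]
    exact (LinearMap.exact_iff.1 hfg).symm
  mono_f := (ModuleCat.mono_iff_injective _).2 hf
  epi_g := (ModuleCat.epi_iff_surjective _).2 hg

/-- The middle term of a short exact sequence. -/
theorem subsingleton_ext_middle {S : ShortComplex (ModuleCat.{u} R)} (hS : S.ShortExact) {i : ℕ}
    (h₁ : Subsingleton (Ext S.X₁ G i)) (h₃ : Subsingleton (Ext S.X₃ G i)) :
    Subsingleton (Ext S.X₂ G i) := by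
  refine subsingleton_of_forall_eq 0 fun x => ?_
  obtain ⟨y, rfl⟩ := Ext.contravariant_sequence_exact₂ hS _ x (h₁.elim _ _)
  rw [h₃.elim y 0, Ext.comp_zero]

/-- Precomposition with a surjection is injective when the kernel has no `Ext` one degree lower. -/
theorem eq_zero_of_mk₀_comp_eq_zero {A B : ModuleCat.{u} R} (g : A ⟶ B)
    (hg : Function.Surjective g.hom) {i : ℕ} (x : Ext B G i)
    (h : ∀ j, j + 1 = i → Subsingleton (Ext (ModuleCat.of R (LinearMap.ker g.hom)) G j))
    (hx : (Ext.mk₀ g).comp x (zero_add i) = 0) : x = 0 := by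
  have hS := shortExact_of_linearMap (LinearMap.ker g.hom).injective_subtype hg
    (LinearMap.exact_subtype_ker_map g.hom)
  cases i with
  | zero =>
    have : Epi g := (ModuleCat.epi_iff_surjective _).2 hg
    exact Ext.precomp_mk₀_injective_of_epi _ g (hx.trans (map_zero _).symm)
  | succ i =>
    obtain ⟨y, rfl⟩ := Ext.contravariant_sequence_exact₃ hS _ x hx (n₀ := i) (by omega)
    rw [(h i rfl).elim y 0, Ext.comp_zero]

theorem subsingleton_ext_of_linearEquiv {A B : ModuleCat.{u} R} (e : A ≅ B) {i : ℕ}
    (h : Subsingleton (Ext B G i)) : Subsingleton (Ext A G i) := by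
  refine subsingleton_of_forall_eq 0 fun x => ?_
  rw [← Ext.mk₀_id_comp x, ← e.hom_inv_id, ← Ext.mk₀_comp_mk₀, Ext.comp_assoc_of_second_deg_zero,
    h.elim ((Ext.mk₀ e.inv).comp x _) 0, Ext.comp_zero]

variable [IsNoetherianRing R]

/-- Vanishing for a finite module follows from vanishing for the primes of its support. -/
theorem subsingleton_ext_of_forall_prime (N : Type u) [AddCommGroup N] [Module R N]
    [hN : Module.Finite R N] (i : ℕ)
    (h : ∀ p ∈ Module.support R N,
      Subsingleton (Ext (ModuleCat.of R (R ⧸ p.asIdeal)) G i)) :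
    Subsingleton (Ext (ModuleCat.of R N) G i) := by
  refine IsNoetherianRing.induction_on_isQuotientEquivQuotientPrime R hN
    (motive := fun L _ _ _ => (∀ p ∈ Module.support R L,
      Subsingleton (Ext (ModuleCat.of R (R ⧸ p.asIdeal)) G i)) →
        Subsingleton (Ext (ModuleCat.of R L) G i)) ?_ ?_ ?_ h
  · intro L _ _ _ _ _
    refine subsingleton_of_forall_eq 0 fun x => ?_
    rw [← Ext.mk₀_id_comp x, show 𝟙 (ModuleCat.of R L) = 0 from ModuleCat.hom_ext
      (LinearMap.ext fun _ => Subsingleton.elim _ _), Ext.mk₀_zero, Ext.zero_comp]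
  · intro L _ _ _ p e hL
    refine subsingleton_ext_of_linearEquiv e.toModuleIso (hL p ?_)
    rw [e.support_eq, Module.support_eq_zeroLocus, Ideal.annihilator_quotient]
    exact le_refl p.asIdeal
  · intro N₁ _ _ _ N₂ _ _ _ N₃ _ _ _ f g hf hg hfg h₁ h₃ h₂
    exact subsingleton_ext_middle (shortExact_of_linearMap hf hg hfg)
      (h₁ fun p hp => h₂ p (Module.support_subset_of_injective f hf hp))
      (h₃ fun p hp => h₂ p (Module.support_subset_of_surjective g hg hp))

/-- A finite module maps nontrivially to each prime quotient in its support. -/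
theorem exists_linearMap_ne_zero (F : Type u) [AddCommGroup F] [Module R F]
    [Module.Finite R F] {p : PrimeSpectrum R} (hp : p ∈ Module.support R F) :
    ∃ f : F →ₗ[R] R ⧸ p.asIdeal, f ≠ 0 := by
  by_contra hne
  push Not at hne
  obtain ⟨r, hr, hreg⟩ := IsSMulRegular.subsingleton_linearMap_iff.1
    (subsingleton_of_forall_eq 0 hne)
  rw [Module.support_eq_zeroLocus] at hp
  have h0 : r • (1 : R ⧸ p.asIdeal) = r • 0 := by
    rw [smul_zero, Algebra.smul_def, mul_one, Ideal.Quotient.algebraMap_eq,
      Ideal.Quotient.eq_zero_iff_mem]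
    exact hp hr
  exact one_ne_zero (hreg h0)

/-- Vanishing for one finite module gives vanishing for all finite modules with smaller support. -/
theorem subsingleton_ext_of_support_subset (F : Type u) [AddCommGroup F] [Module R F]
    [Module.Finite R F] {n : ℕ} (hF : ∀ i < n, Subsingleton (Ext (ModuleCat.of R F) G i))
    (i : ℕ) (hi : i < n) (N : Type u) [AddCommGroup N] [Module R N] [Module.Finite R N]
    (hN : Module.support R N ⊆ Module.support R F) :
    Subsingleton (Ext (ModuleCat.of R N) G i) := by
  induction i using Nat.strong_induction_on generalizing N with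
  | _ i ih =>
    refine subsingleton_ext_of_forall_prime N i fun p hp => ?_
    have hpF := hN hp
    clear hp hN
    induction p using (InvImage.wf PrimeSpectrum.asIdeal
      (wellFounded_gt (α := Ideal R))).induction with
    | _ p ihp =>
      obtain ⟨f, hf⟩ := exists_linearMap_ne_zero F hpF
      have hupp : ∀ q : PrimeSpectrum R, p ≤ q → q ∈ Module.support R F := fun q hq =>
        Module.mem_support_mono hq hpF
      have h₁ : Subsingleton (Ext (ModuleCat.of R f.range) G i) := by
        refine subsingleton_of_forall_eq 0 fun x => eq_zero_of_mk₀_comp_eq_zero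
          (ModuleCat.ofHom f.rangeRestrict) f.surjective_rangeRestrict x ?_ ((hF i hi).elim _ _)
        intro j hj
        exact ih j (by omega) (by omega) (LinearMap.ker (ModuleCat.ofHom f.rangeRestrict).hom)
          (Module.support_subset_of_injective (Submodule.subtype _) (Submodule.injective_subtype _))
      refine subsingleton_ext_middle (shortExact_of_linearMap f.range.injective_subtype
        f.range.mkQ_surjective (LinearMap.exact_subtype_mkQ _)) h₁ ?_
      refine subsingleton_ext_of_forall_prime _ i fun q hq => ?_
      have hqp : p ≤ q := by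
        have := Module.support_subset_of_surjective f.range.mkQ f.range.mkQ_surjective hq
        rwa [Module.support_eq_zeroLocus, Ideal.annihilator_quotient] at this
      refine ihp q (lt_of_le_of_ne hqp ?_) (hupp q hqp)
      intro he
      obtain rfl := PrimeSpectrum.ext he
      obtain ⟨m, hm⟩ : ∃ m, f m ≠ 0 := by
        by_contra! hh
        exact hf (LinearMap.ext hh)
      obtain ⟨a, ha⟩ := Ideal.Quotient.mk_surjective (f m)
      have hap : a ∉ p.asIdeal := fun h => hm (ha.symm.trans (Ideal.Quotient.eq_zero_iff_mem.2 h))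
      rw [Module.mem_support_iff_exists_annihilator] at hq
      obtain ⟨z, hz⟩ := hq
      refine hap (hz ?_)
      rw [Submodule.mem_annihilator_span_singleton]
      obtain ⟨y, rfl⟩ := Submodule.mkQ_surjective _ z
      obtain ⟨b, rfl⟩ := Ideal.Quotient.mk_surjective y
      rw [← map_smul, Submodule.mkQ_apply, Submodule.Quotient.mk_eq_zero]
      refine ⟨b • m, ?_⟩
      rw [map_smul, ← ha]
      exact (congrArg (Ideal.Quotient.mk _) (mul_comm b a))

end Groth.Agent.DepthLib
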