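import Groth.Agent.Lib.Depth.Basic
import Groth.Agent.Lib.Depth.Devissage
import Mathlib.Algebra.Category.ModuleCat.Ext.Finite
import Mathlib.RingTheory.KrullDimension.Module

/-!
# Maximal regular sequences, change of ideal, local criterion
-/

universe u v

open CategoryTheory Abelian RingTheory.Sequence Pointwise

namespace Groth.Agent.DepthLib

section General

variable {R : Type u} [CommRing R] {I : Ideal R} {M : Type v} [AddCommGroup M] [Module R M]

theorem idealDepth_of_smul_top_eq_top (h : I • (⊤ : Submodule R M) = ⊤) :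
    LocCoh.idealDepth I M = ⊤ := by
  rw [LocCoh.idealDepth, if_pos h]

theorem idealDepth_of_smul_top_ne_top (h : I • (⊤ : Submodule R M) ≠ ⊤) :
    LocCoh.idealDepth I M =
      ⨆ (rs : List R) (_ : IsWeaklyRegular M rs ∧ ∀ r ∈ rs, r ∈ I), (rs.length : ℕ∞) := by
  rw [LocCoh.idealDepth, if_neg h]

theorem length_le_idealDepth {rs : List R} (h : IsWeaklyRegular M rs) (hI : ∀ r ∈ rs, r ∈ I) :
    (rs.length : ℕ∞) ≤ LocCoh.idealDepth I M := by
  by_cases hM : I • (⊤ : Submodule R M) = ⊤
  · simp [idealDepth_of_smul_top_eq_top hM]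
  · rw [idealDepth_of_smul_top_ne_top hM]
    exact le_iSup₂ (f := fun (rs : List R) (_ : IsWeaklyRegular M rs ∧ ∀ r ∈ rs, r ∈ I) =>
      (rs.length : ℕ∞)) rs ⟨h, hI⟩

theorem exists_isWeaklyRegular_of_le_idealDepth (hM : I • (⊤ : Submodule R M) ≠ ⊤) {n : ℕ}
    (h : (n : ℕ∞) ≤ LocCoh.idealDepth I M) :
    ∃ rs : List R, IsWeaklyRegular M rs ∧ (∀ r ∈ rs, r ∈ I) ∧ rs.length = n := by
  cases n with
  | zero => exact ⟨[], IsWeaklyRegular.nil R M, by simp, rfl⟩
  | succ k =>
    rw [idealDepth_of_smul_top_ne_top hM] at h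
    obtain ⟨rs, h2⟩ := lt_iSup_iff.1 (lt_of_lt_of_le (Nat.cast_lt.2 (Nat.lt_succ_self k)) h)
    obtain ⟨hrs, h3⟩ := lt_iSup_iff.1 h2
    have hk : k + 1 ≤ rs.length := Nat.cast_lt.1 h3
    refine ⟨rs.take (k + 1), ?_, fun r hr => hrs.2 r (List.mem_of_mem_take hr), by simpa using hk⟩
    have := hrs.1
    rw [← List.take_append_drop (k + 1) rs] at this
    exact ((isWeaklyRegular_append_iff M _ _).1 this).1

theorem exists_isSMulRegular_of_one_le_idealDepth (hM : I • (⊤ : Submodule R M) ≠ ⊤)
    (h : 1 ≤ LocCoh.idealDepth I M) : ∃ x ∈ I, IsSMulRegular M x := by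
  obtain ⟨rs, h1, h2, h3⟩ := exists_isWeaklyRegular_of_le_idealDepth hM (n := 1) (by exact_mod_cast h)
  obtain ⟨x, rfl⟩ := List.length_eq_one_iff.1 h3
  exact ⟨x, h2 x List.mem_cons_self, (isWeaklyRegular_singleton_iff M x).1 h1⟩

theorem smul_top_eq_top_congr {M' : Type*} [AddCommGroup M'] [Module R M'] (e : M ≃ₗ[R] M') :
    I • (⊤ : Submodule R M) = ⊤ ↔ I • (⊤ : Submodule R M') = ⊤ := by
  rw [← (Submodule.map_injective_of_injective e.injective).eq_iff, Submodule.map_smul'',
    Submodule.map_top, LinearEquiv.range]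

theorem idealDepth_congr {M' : Type*} [AddCommGroup M'] [Module R M'] (e : M ≃ₗ[R] M') :
    LocCoh.idealDepth I M = LocCoh.idealDepth I M' := by
  by_cases hM : I • (⊤ : Submodule R M) = ⊤
  · rw [idealDepth_of_smul_top_eq_top hM,
      idealDepth_of_smul_top_eq_top ((smul_top_eq_top_congr e).1 hM)]
  · rw [idealDepth_of_smul_top_ne_top hM,
      idealDepth_of_smul_top_ne_top (mt (smul_top_eq_top_congr e).2 hM)]
    simp_rw [e.isWeaklyRegular_congr]

theorem smul_top_quot_eq_top_iff {J : Ideal R} (hJ : J ≤ I) :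
    I • (⊤ : Submodule R (M ⧸ (J • ⊤ : Submodule R M))) = ⊤ ↔ I • (⊤ : Submodule R M) = ⊤ := by
  rw [← (Submodule.comap_injective_of_surjective (Submodule.mkQ_surjective _)).eq_iff,
    Submodule.comap_smul_top_of_surjective I _ (Submodule.mkQ_surjective _), Submodule.ker_mkQ,
    Submodule.comap_top, sup_of_le_left (Submodule.smul_mono_left hJ)]

end General

variable {R : Type u} [CommRing R] [IsNoetherianRing R] {I : Ideal R}
variable {M : Type u} [AddCommGroup M] [Module R M] [Module.Finite R M]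

/-- Depth drops by the length of a weakly regular sequence. -/
theorem idealDepth_quot_add_length {rs : List R} (h : IsWeaklyRegular M rs)
    (hI : ∀ r ∈ rs, r ∈ I) :
    LocCoh.idealDepth I (M ⧸ (Ideal.ofList rs • ⊤ : Submodule R M)) + rs.length =
      LocCoh.idealDepth I M := by
  induction rs generalizing M with
  | nil =>
    rw [List.length_nil, Nat.cast_zero, add_zero]
    exact idealDepth_congr (Submodule.quotEquivOfEqBot _ (by simp))
  | cons r rs ih =>
    rw [isWeaklyRegular_cons_iff] at h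
    rw [idealDepth_congr (Submodule.quotOfListConsSMulTopEquivQuotSMulTopInner M r rs),
      List.length_cons, Nat.cast_add, Nat.cast_one, ← add_assoc,
      ih h.2 (fun s hs => hI s (List.mem_cons_of_mem r hs)),
      idealDepth_quotSMulTop_add_one (hI r List.mem_cons_self) h.1]

omit [IsNoetherianRing R] [Module.Finite R M] in
theorem idealDepth_eq_zero_of_forall_not_isSMulRegular (hM : I • (⊤ : Submodule R M) ≠ ⊤)
    (h : ∀ r ∈ I, ¬ IsSMulRegular M r) : LocCoh.idealDepth I M = 0 := by
  by_contra h0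
  obtain ⟨x, hx, hreg⟩ := exists_isSMulRegular_of_one_le_idealDepth hM
    (Order.one_le_iff_pos.2 (pos_iff_ne_zero.2 h0))
  exact h x hx hreg

/-- Maximal weakly regular sequences in `I` have length the depth. -/
theorem length_eq_idealDepth_of_maximal {rs : List R} (h : IsWeaklyRegular M rs)
    (hI : ∀ r ∈ rs, r ∈ I) (hM : I • (⊤ : Submodule R M) ≠ ⊤)
    (hmax : ∀ r ∈ I, ¬ IsWeaklyRegular M (rs ++ [r])) :
    (rs.length : ℕ∞) = LocCoh.idealDepth I M := by
  rw [← idealDepth_quot_add_length h hI, idealDepth_eq_zero_of_forall_not_isSMulRegular, zero_add]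
  · exact mt (smul_top_quot_eq_top_iff (Ideal.span_le.2 hI)).1 hM
  · intro r hr hreg
    exact hmax r hr ((isWeaklyRegular_append_iff M rs [r]).2
      ⟨h, (isWeaklyRegular_singleton_iff _ r).2 hreg⟩)

omit [Module.Finite R M] in
/-- Weakly regular sequences extend to maximal ones. -/
theorem exists_maximal_extension (hM : I • (⊤ : Submodule R M) ≠ ⊤) {rs : List R}
    (h : IsWeaklyRegular M rs) (hI : ∀ r ∈ rs, r ∈ I) :
    ∃ rs' : List R, rs <+: rs' ∧ IsWeaklyRegular M rs' ∧ (∀ r ∈ rs', r ∈ I) ∧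
      ∀ r ∈ I, ¬ IsWeaklyRegular M (rs' ++ [r]) := by
  induction hJ : Ideal.ofList rs using (wellFounded_gt (α := Ideal R)).induction generalizing rs with
  | _ J ih =>
    subst hJ
    by_cases hex : ∃ r ∈ I, IsWeaklyRegular M (rs ++ [r])
    · obtain ⟨r, hr, hreg⟩ := hex
      have hI' : ∀ s ∈ rs ++ [r], s ∈ I := by
        simp only [List.mem_append, List.mem_singleton]
        rintro s (hs | rfl)
        exacts [hI s hs, hr]
      have hlt : Ideal.ofList rs < Ideal.ofList (rs ++ [r]) := by
        rw [Ideal.ofList_append, Ideal.ofList_singleton, left_lt_sup, Ideal.span_le,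
          Set.singleton_subset_iff]
        intro hmem
        have h2 := (isWeaklyRegular_singleton_iff _ r).1 ((isWeaklyRegular_append_iff M rs [r]).1 hreg).2
        apply hM
        have h3 : (Ideal.ofList rs • ⊤ : Submodule R M) = ⊤ := by
          rw [eq_top_iff]
          intro m _
          rw [← Submodule.Quotient.mk_eq_zero]
          refine h2.right_eq_zero_of_smul ?_
          rw [← Submodule.Quotient.mk_smul, Submodule.Quotient.mk_eq_zero]
          exact Submodule.smul_mem_smul hmem trivial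
        have h4 : (Ideal.ofList rs • ⊤ : Submodule R M) ≤ I • ⊤ :=
          Submodule.smul_mono_left (Ideal.span_le.2 hI)
        exact top_le_iff.1 (h3.ge.trans h4)
      obtain ⟨rs', h1, h2⟩ := ih _ hlt hreg hI' rfl
      exact ⟨rs', (List.prefix_append rs [r]).trans h1, h2⟩
    · push Not at hex
      exact ⟨rs, List.prefix_rfl, h, hI, hex⟩

omit [IsNoetherianRing R] in
theorem mk₀_smul_id_comp {X Y : ModuleCat.{u} R} {i : ℕ} (r : R) (b : Ext X Y i) :
    (Ext.mk₀ (r • 𝟙 X)).comp b (zero_add i) = r • b := by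
  rw [Ext.mk₀_smul, Ext.smul_comp, Ext.mk₀_id_comp]

/-- Nakayama step: vanishing of `Ext^(i+1)` on primes strictly above `p` that contain `x` gives
vanishing of `Ext^i(R ⧸ p, M)`. -/
theorem subsingleton_ext_prime_of_notMem [IsLocalRing R] (p : PrimeSpectrum R) {x : R}
    (hx : x ∈ IsLocalRing.maximalIdeal R) (hxp : x ∉ p.asIdeal) (i : ℕ)
    (h : ∀ q : PrimeSpectrum R, p.asIdeal ≤ q.asIdeal → x ∈ q.asIdeal →
      Subsingleton (Ext (ModuleCat.of R (R ⧸ q.asIdeal)) (ModuleCat.of R M) (i + 1))) :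
    Subsingleton (Ext (ModuleCat.of R (R ⧸ p.asIdeal)) (ModuleCat.of R M) i) := by
  have hreg : IsSMulRegular (R ⧸ p.asIdeal) x := by
    refine IsSMulRegular.of_right_eq_zero_of_smul fun a => ?_
    obtain ⟨a, rfl⟩ := Ideal.Quotient.mk_surjective a
    intro ha
    rw [Algebra.smul_def, Ideal.Quotient.algebraMap_eq, ← map_mul,
      Ideal.Quotient.eq_zero_iff_mem] at ha
    exact Ideal.Quotient.eq_zero_iff_mem.2 ((p.isPrime.mem_or_mem ha).resolve_left hxp)
  have hS := IsSMulRegular.smulShortComplex_shortExact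
    (M := ModuleCat.of R (R ⧸ p.asIdeal)) hreg
  have h0 : Subsingleton (Ext (ModuleCat.of R (QuotSMulTop x (R ⧸ p.asIdeal)))
      (ModuleCat.of R M) (i + 1)) := by
    refine subsingleton_ext_of_forall_prime _ _ fun q hq => ?_
    rw [Module.support_quotSMulTop, support_quotient] at hq
    exact h q hq.1 (hq.2 rfl)
  let E := Ext (ModuleCat.of R (R ⧸ p.asIdeal)) (ModuleCat.of R M) i
  have hsurj : (⊤ : Submodule R E) ≤ IsLocalRing.maximalIdeal R • ⊤ := by
    intro a _
    obtain ⟨b, hb⟩ := Ext.contravariant_sequence_exact₁ hS (ModuleCat.of R M) a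
      (n₁ := i + 1) (add_comm 1 i) (h0.elim _ _)
    have hb' : x • (b : E) = a := by
      refine Eq.trans ?_ hb
      rw [ModuleCat.smulShortComplex_f_eq_smul_id]
      exact (mk₀_smul_id_comp x b).symm
    rw [← hb']
    exact Submodule.smul_mem_smul hx trivial
  have hbot := Submodule.eq_bot_of_le_smul_of_le_jacobson_bot _ _
    (Module.Finite.fg_top (R := R) (M := E)) hsurj (IsLocalRing.maximalIdeal_le_jacobson _)
  exact (Submodule.subsingleton_iff R (M := E)).1 (subsingleton_of_bot_eq_top hbot.symm)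

/-- Adjoining one element raises the depth by at most one. -/
theorem idealDepth_pred_le [IsLocalRing R] {J : Ideal R} {x : R}
    (hx : x ∈ IsLocalRing.maximalIdeal R) {n : ℕ}
    (h : ((n + 1 : ℕ) : ℕ∞) ≤ LocCoh.idealDepth (J ⊔ Ideal.span {x}) M) :
    (n : ℕ∞) ≤ LocCoh.idealDepth J M := by
  rw [natCast_le_idealDepth_iff]
  intro i hi
  refine subsingleton_ext_of_forall_prime (R ⧸ J) i fun p hp => ?_
  have hpJ : J ≤ p.asIdeal := by
    rw [support_quotient] at hp
    exact hp
  have key : ∀ q : PrimeSpectrum R, p.asIdeal ≤ q.asIdeal → x ∈ q.asIdeal → ∀ k < n + 1,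
      Subsingleton (Ext (ModuleCat.of R (R ⧸ q.asIdeal)) (ModuleCat.of R M) k) := by
    intro q hpq hxq k hk
    refine subsingleton_ext_of_le_idealDepth h (ModuleCat.of R (R ⧸ q.asIdeal)) ?_ hk
    rw [support_quotient]
    exact PrimeSpectrum.zeroLocus_anti_mono_ideal
      (sup_le (hpJ.trans hpq) ((Ideal.span_singleton_le_iff_mem _).2 hxq))
  by_cases hxp : x ∈ p.asIdeal
  · exact key p le_rfl hxp i (by omega)
  · exact subsingleton_ext_prime_of_notMem p hx hxp i fun q hq hxq => key q hq hxq (i + 1) (by omega)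

/-- Over a local ring, a sequence spanning an ideal of depth at least its length is weakly regular. -/
theorem isWeaklyRegular_of_length_le_idealDepth [IsLocalRing R] [Nontrivial M] (xs : List R)
    (hxs : ∀ x ∈ xs, x ∈ IsLocalRing.maximalIdeal R)
    (h : (xs.length : ℕ∞) ≤ LocCoh.idealDepth (Ideal.ofList xs) M) : IsWeaklyRegular M xs := by
  induction xs using List.reverseRecOn with
  | nil => exact IsWeaklyRegular.nil R M
  | append_singleton ys y ih =>
    have hys : Ideal.ofList ys ≤ IsLocalRing.maximalIdeal R :=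
      Ideal.span_le.2 fun a ha => hxs a (List.mem_append_left _ ha)
    have hy : y ∈ IsLocalRing.maximalIdeal R := hxs y (List.mem_append_right _ List.mem_cons_self)
    rw [Ideal.ofList_append, Ideal.ofList_singleton, List.length_append, List.length_singleton] at h
    have hw := ih (fun a ha => hxs a (List.mem_append_left _ ha)) (idealDepth_pred_le hy h)
    rw [isWeaklyRegular_append_iff, isWeaklyRegular_singleton_iff]
    refine ⟨hw, ?_⟩
    let I := Ideal.ofList ys ⊔ Ideal.span {y}
    have hmem : ∀ a ∈ ys, a ∈ I := fun a ha => Ideal.mem_sup_left (Ideal.subset_span ha)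
    rw [← idealDepth_quot_add_length hw hmem, Nat.cast_add, Nat.cast_one, add_comm _ (1 : ℕ∞),
      ENat.add_le_add_iff_right (ENat.natCast_ne_top _)] at h
    have hI : I • (⊤ : Submodule R (M ⧸ (Ideal.ofList ys • ⊤ : Submodule R M))) ≠ ⊤ := by
      refine mt (smul_top_quot_eq_top_iff le_sup_left).1 (Ne.symm ?_)
      exact Submodule.top_ne_ideal_smul_of_le_jacobson_annihilator
        ((sup_le hys ((Ideal.span_singleton_le_iff_mem _).2 hy)).trans
          (IsLocalRing.maximalIdeal_le_jacobson _))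
    obtain ⟨z, hz, hreg⟩ := exists_isSMulRegular_of_one_le_idealDepth hI h
    obtain ⟨j, hj, w, hw', rfl⟩ := Submodule.mem_sup.1 hz
    obtain ⟨c, rfl⟩ := Ideal.mem_span_singleton'.1 hw'
    refine IsSMulRegular.of_right_eq_zero_of_smul fun m hm => hreg.right_eq_zero_of_smul ?_
    rw [add_smul, mul_smul, hm, smul_zero, add_zero]
    obtain ⟨m, rfl⟩ := Submodule.Quotient.mk_surjective _ m
    rw [← Submodule.Quotient.mk_smul, Submodule.Quotient.mk_eq_zero]
    exact Submodule.smul_mem_smul hj trivial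

/-- Ischebeck: `Ext^i(R ⧸ p, M) = 0` when `i + coheight p < depth M`. -/
theorem subsingleton_ext_prime_of_coheight_lt [IsLocalRing R] {d : ℕ}
    (hd : (d : ℕ∞) ≤ LocCoh.idealDepth (IsLocalRing.maximalIdeal R) M) (k : ℕ) (p : PrimeSpectrum R)
    (hp : Order.coheight p ≤ k) (i : ℕ) (hi : i + k < d) :
    Subsingleton (Ext (ModuleCat.of R (R ⧸ p.asIdeal)) (ModuleCat.of R M) i) := by
  induction k generalizing p i with
  | zero =>
    refine subsingleton_ext_of_le_idealDepth hd (ModuleCat.of R (R ⧸ p.asIdeal)) ?_ (by omega)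
    rw [support_quotient]
    have hmax : IsMax p := Order.coheight_eq_zero.1 (nonpos_iff_eq_zero.1 hp)
    have hle : p ≤ ⟨IsLocalRing.maximalIdeal R, inferInstance⟩ :=
      IsLocalRing.le_maximalIdeal p.isPrime.ne_top
    exact PrimeSpectrum.zeroLocus_anti_mono_ideal (hmax hle)
  | succ k ih =>
    by_cases hpm : IsLocalRing.maximalIdeal R ≤ p.asIdeal
    · refine subsingleton_ext_of_le_idealDepth hd (ModuleCat.of R (R ⧸ p.asIdeal)) ?_ (by omega)
      rw [support_quotient]
      exact PrimeSpectrum.zeroLocus_anti_mono_ideal hpm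
    · obtain ⟨x, hx, hxp⟩ := SetLike.not_le_iff_exists.1 hpm
      refine subsingleton_ext_prime_of_notMem p hx hxp i fun q hq hxq => ih q ?_ (i + 1) (by omega)
      have hlt : p < q := lt_of_le_of_ne hq fun e => hxp (e ▸ hxq)
      exact (ENat.lt_add_one_iff (ENat.natCast_ne_top k)).1 (by simpa using Order.coheight_le_coe_iff.1 hp q hlt)

/-- Ischebeck: `Ext^i(N, M) = 0` when `i + dim N < depth M`. -/
theorem subsingleton_ext_of_supportDim_le [IsLocalRing R] (N : Type u) [AddCommGroup N] [Module R N]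
    [Module.Finite R N] {d r i : ℕ}
    (hd : (d : ℕ∞) ≤ LocCoh.idealDepth (IsLocalRing.maximalIdeal R) M)
    (hr : Module.supportDim R N ≤ r) (hi : i + r < d) :
    Subsingleton (Ext (ModuleCat.of R N) (ModuleCat.of R M) i) := by
  refine subsingleton_ext_of_forall_prime N i fun p hp =>
    subsingleton_ext_prime_of_coheight_lt hd r p ?_ i hi
  refine Order.coheight_le fun s hs => ?_
  let t : LTSeries (Module.support R N) :=
    { length := s.length
      toFun := fun j => ⟨s j, Module.mem_support_mono (hs ▸ s.head_le j) hp⟩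
      step := fun j => s.step j }
  have h1 : ((t.length : ℕ∞) : WithBot ℕ∞) ≤ ((r : ℕ∞) : WithBot ℕ∞) :=
    (Order.LTSeries.length_le_krullDim t).trans hr
  exact WithBot.coe_le_coe.1 h1

end Groth.Agent.DepthLib
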