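import Groth.Agent.Lib.Depth.More
import Mathlib.RingTheory.Regular.Flat
import Mathlib.RingTheory.Ideal.AssociatedPrime.Localization
import Mathlib.RingTheory.Regular.IsSMulRegular

/-!
# Depth under flat base change and localization
-/

universe u v

open CategoryTheory RingTheory.Sequence Pointwise TensorProduct

namespace Groth.Agent.DepthLib

section Mono

variable {R : Type u} [CommRing R] {M : Type v} [AddCommGroup M] [Module R M]

theorem idealDepth_mono {I J : Ideal R} (h : I ≤ J) :
    LocCoh.idealDepth I M ≤ LocCoh.idealDepth J M := by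
  by_cases hJ : J • (⊤ : Submodule R M) = ⊤
  · simp [idealDepth_of_smul_top_eq_top hJ]
  · have hI : I • (⊤ : Submodule R M) ≠ ⊤ := fun e =>
      hJ (top_le_iff.1 (e.ge.trans (Submodule.smul_mono_left h)))
    rw [idealDepth_of_smul_top_ne_top hI]
    exact iSup₂_le fun rs hrs => length_le_idealDepth hrs.1 fun r hr => h (hrs.2 r hr)

/-- Without regular elements in `I`, an associated prime contains `I`. -/
theorem exists_associatedPrime_ge [IsNoetherianRing R] [Module.Finite R M] {I : Ideal R}
    (h : ∀ r ∈ I, ¬ IsSMulRegular M r) : ∃ p ∈ associatedPrimes R M, I ≤ p := by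
  have hfin := associatedPrimes.finite R M
  have hsub : (I : Set R) ⊆ ⋃ p ∈ associatedPrimes R M, (p : Set R) := by
    rw [biUnion_associatedPrimes_eq_compl_regular]
    exact h
  rw [← hfin.coe_toFinset] at hsub
  simp only [Finset.mem_coe] at hsub
  obtain ⟨p, hp, hle⟩ := (Ideal.subset_union_prime (f := id) (⊥ : Ideal R) ⊥
    (fun p hp _ _ => (IsAssociatedPrime.isPrime (hfin.mem_toFinset.1 hp)))).1 hsub
  exact ⟨p, hfin.mem_toFinset.1 hp, hle⟩

/-- Without regular elements in `I`, a nonzero element is killed by `I`. -/
theorem exists_ne_zero_smul_eq_zero [IsNoetherianRing R] [Module.Finite R M] {I : Ideal R}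
    (h : ∀ r ∈ I, ¬ IsSMulRegular M r) : ∃ m : M, m ≠ 0 ∧ ∀ r ∈ I, r • m = 0 := by
  obtain ⟨p, hp, hle⟩ := exists_associatedPrime_ge h
  obtain ⟨hprime, m, hm⟩ := isAssociatedPrime_iff.1 hp
  refine ⟨m, ?_, fun r hr => ?_⟩
  · rintro rfl
    exact hprime.ne_top (hm.trans (by ext; simp))
  · have hr' := hle hr
    rw [hm] at hr'
    simpa using hr'

end Mono

variable {A B : Type u} [CommRing A] [CommRing B] [Algebra A B] [IsNoetherianRing B]
variable {I : Ideal A} {M : Type u} [AddCommGroup M] [Module A M] [Module.Finite A M]

omit [IsNoetherianRing B] [Module.Finite A M] in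
theorem map_smul_top_eq_top (h : I • (⊤ : Submodule A M) = ⊤) :
    I.map (algebraMap A B) • (⊤ : Submodule B (B ⊗[A] M)) = ⊤ := by
  rw [eq_top_iff]
  intro z _
  induction z with
  | zero => exact zero_mem _
  | add a b ha hb => exact add_mem (ha trivial) (hb trivial)
  | tmul b m =>
    have hm : m ∈ I • (⊤ : Submodule A M) := h.ge trivial
    refine Submodule.smul_induction_on hm (fun r hr n _ => ?_) fun x y hx hy => ?_
    · rw [← TensorProduct.smul_tmul, Algebra.smul_def,
        show (algebraMap A B r * b) ⊗ₜ[A] n = algebraMap A B r • (b ⊗ₜ[A] n) from rfl]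
      exact Submodule.smul_mem_smul (Ideal.mem_map_of_mem _ hr) trivial
    · rw [TensorProduct.tmul_add]
      exact add_mem hx hy

theorem idealDepth_quotSMulTop_baseChange {x : A} (hx : x ∈ I) (hreg : IsSMulRegular M x)
    [Module.Flat A B] :
    LocCoh.idealDepth (I.map (algebraMap A B)) (B ⊗[A] QuotSMulTop x M) + 1 =
      LocCoh.idealDepth (I.map (algebraMap A B)) (B ⊗[A] M) := by
  rw [← idealDepth_congr (QuotSMulTop.algebraMapTensorEquivTensorQuotSMulTop x M B)]
  exact idealDepth_quotSMulTop_add_one (Ideal.mem_map_of_mem _ hx)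
    (hreg.of_flat_of_isBaseChange (TensorProduct.isBaseChange A M B))

omit [IsNoetherianRing B] [Module.Finite A M] in
theorem idealDepth_le_baseChange [Module.Flat A B] :
    LocCoh.idealDepth I M ≤ LocCoh.idealDepth (I.map (algebraMap A B)) (B ⊗[A] M) := by
  by_cases hM : I • (⊤ : Submodule A M) = ⊤
  · simp [idealDepth_of_smul_top_eq_top (map_smul_top_eq_top (B := B) hM)]
  · rw [idealDepth_of_smul_top_ne_top hM]
    refine iSup₂_le fun rs hrs => ?_
    refine le_trans (by simp) (length_le_idealDepth (rs := rs.map (algebraMap A B))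
      (hrs.1.of_flat_of_isBaseChange (TensorProduct.isBaseChange A M B)) fun r hr => ?_)
    obtain ⟨a, ha, rfl⟩ := List.mem_map.1 hr
    exact Ideal.mem_map_of_mem _ (hrs.2 a ha)

variable [IsNoetherianRing A]

theorem idealDepth_baseChange_eq [Module.FaithfullyFlat A B] :
    LocCoh.idealDepth (I.map (algebraMap A B)) (B ⊗[A] M) = LocCoh.idealDepth I M := by
  refine le_antisymm (ENat.forall_natCast_le_iff_le.1 fun n hn => ?_) idealDepth_le_baseChange
  induction n generalizing M with
  | zero => simp
  | succ n ih =>
    by_cases hM : I • (⊤ : Submodule A M) = ⊤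
    · simp [idealDepth_of_smul_top_eq_top hM]
    by_cases hex : ∃ x ∈ I, IsSMulRegular M x
    · obtain ⟨x, hx, hreg⟩ := hex
      rw [← idealDepth_quotSMulTop_baseChange hx hreg, Nat.cast_succ,
        ENat.add_le_add_iff_right ENat.one_ne_top] at hn
      rw [← idealDepth_quotSMulTop_add_one hx hreg, Nat.cast_succ]
      exact add_le_add_left (ih hn) 1
    · push Not at hex
      exfalso
      obtain ⟨m, hm0, hm⟩ := exists_ne_zero_smul_eq_zero hex
      have h1 : (1 : B) ⊗ₜ[A] m ≠ 0 := fun e =>
        hm0 (Module.FaithfullyFlat.tensorProduct_mk_injective M (e.trans (tmul_zero _ _).symm))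
      have hne : I.map (algebraMap A B) • (⊤ : Submodule B (B ⊗[A] M)) ≠ ⊤ :=
        ((TensorProduct.isBaseChange A M B).map_smul_top_ne_top_iff_of_faithfullyFlat A M _).2 hM
      obtain ⟨y, hy, hreg⟩ := exists_isSMulRegular_of_one_le_idealDepth hne
        (le_trans (by simp) hn)
      refine h1 (hreg.right_eq_zero_of_smul ?_)
      refine Submodule.span_induction (p := fun y _ => y • ((1 : B) ⊗ₜ[A] m) = 0) ?_
        (zero_smul _ _) (fun a b _ _ ha hb => by rw [add_smul, ha, hb, add_zero])
        (fun a b _ hb => by rw [smul_assoc, hb, smul_zero]) hy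
      rintro _ ⟨a, ha, rfl⟩
      rw [algebraMap_smul, ← TensorProduct.tmul_smul, hm a ha, tmul_zero]

section Local

variable {A : Type u} [CommRing A] [IsNoetherianRing A] {I : Ideal A}
variable {M : Type u} [AddCommGroup M] [Module A M] [Module.Finite A M]

/-- The depth along `I` is the infimum of the local depths on `V(I)` (tensor form). -/
theorem natCast_le_idealDepth_iff_forall_local (n : ℕ) :
    (n : ℕ∞) ≤ LocCoh.idealDepth I M ↔ ∀ p : PrimeSpectrum A, I ≤ p.asIdeal →
      (n : ℕ∞) ≤ LocCoh.idealDepth (IsLocalRing.maximalIdeal (Localization.AtPrime p.asIdeal))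
        (Localization.AtPrime p.asIdeal ⊗[A] M) := by
  have : ∀ p : PrimeSpectrum A, Module.Flat A (Localization.AtPrime p.asIdeal) :=
    fun p => IsLocalization.flat _ p.asIdeal.primeCompl
  constructor
  · intro h p hp
    refine h.trans (idealDepth_le_baseChange.trans (idealDepth_mono ?_))
    rw [← Localization.AtPrime.map_eq_maximalIdeal]
    exact Ideal.map_mono hp
  · intro h
    induction n generalizing M with
    | zero => simp
    | succ n ih =>
      by_cases hM : I • (⊤ : Submodule A M) = ⊤
      · simp [idealDepth_of_smul_top_eq_top hM]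
      by_cases hex : ∃ x ∈ I, IsSMulRegular M x
      · obtain ⟨x, hx, hreg⟩ := hex
        rw [← idealDepth_quotSMulTop_add_one hx hreg, Nat.cast_succ]
        refine add_le_add_left (ih fun p hp => ?_) 1
        have h' := h p hp
        rw [← Localization.AtPrime.map_eq_maximalIdeal] at h' ⊢
        rwa [← idealDepth_quotSMulTop_baseChange (hp hx) hreg, Nat.cast_succ,
          ENat.add_le_add_iff_right ENat.one_ne_top] at h'
      · push Not at hex
        exfalso
        obtain ⟨p, hp, hle⟩ := exists_associatedPrime_ge hex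
        have := IsAssociatedPrime.isPrime hp
        have h1 := h ⟨p, this⟩ hle
        let e := (IsLocalizedModule.isBaseChange p.primeCompl (Localization.AtPrime p)
          (LocalizedModule.mkLinearMap p.primeCompl M)).equiv
        rw [idealDepth_congr e] at h1
        have hass := Module.associatedPrimes.mem_associatedPrimes_atPrime_of_mem_associatedPrimes hp
        have hne : IsLocalRing.maximalIdeal (Localization.AtPrime p) •
            (⊤ : Submodule (Localization.AtPrime p) (LocalizedModule p.primeCompl M)) ≠ ⊤ := by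
          have : Nontrivial (LocalizedModule p.primeCompl M) := by
            by_contra hn
            rw [not_nontrivial_iff_subsingleton] at hn
            rw [associatedPrimes.eq_empty_of_subsingleton] at hass
            exact hass
          exact (Submodule.top_ne_ideal_smul_of_le_jacobson_annihilator
            (IsLocalRing.maximalIdeal_le_jacobson _)).symm
        obtain ⟨y, hy, hreg⟩ := exists_isSMulRegular_of_one_le_idealDepth hne
          (le_trans (by simp) h1)
        obtain ⟨hpr, m, hm⟩ := isAssociatedPrime_iff.1 hass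
        rw [hm] at hy
        have hm0 : m = 0 := hreg.right_eq_zero_of_smul (by simpa using hy)
        refine hpr.ne_top (hm.trans ?_)
        ext
        simp [hm0]

end Local

end Groth.Agent.DepthLib
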