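import Groth.Agent.Lib.Depth.More
import Groth.Agent.Lib.Depth.BaseChange
import Groth.Agent.Lib.RegLoc.Sop
import Mathlib.RingTheory.KrullDimension.Regular
import Mathlib.RingTheory.KrullDimension.Module
import Mathlib.RingTheory.Localization.AtPrime.Basic
import Mathlib.RingTheory.Ideal.Height

/-!
# Cohen–Macaulay modules: depth and dimension
-/

universe u

open CategoryTheory Abelian IsLocalRing

namespace Groth.Agent.DepthLib

variable {R : Type u} [CommRing R] {M : Type u} [AddCommGroup M] [Module R M]

theorem ringKrullDim_quotient_le_supportDim {p : Ideal R} [hp : p.IsPrime]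
    (h : (⟨p, hp⟩ : PrimeSpectrum R) ∈ Module.support R M) :
    ringKrullDim (R ⧸ p) ≤ Module.supportDim R M := by
  rw [ringKrullDim_quotient]
  exact Order.krullDim_le_of_strictMono
    (fun q => ⟨q.1, Module.mem_support_mono (by exact q.2) h⟩) fun _ _ hab => hab

theorem ringKrullDim_quotient_le_supportDim_quotient [Module.Finite R M] {p I : Ideal R}
    [hp : p.IsPrime] (h : (⟨p, hp⟩ : PrimeSpectrum R) ∈ Module.support R M) (hI : I ≤ p) :
    ringKrullDim (R ⧸ p) ≤ Module.supportDim R (M ⧸ I • (⊤ : Submodule R M)) := by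
  refine ringKrullDim_quotient_le_supportDim ?_
  rw [Module.support_quotient]
  exact ⟨h, hI⟩

theorem mem_support_comap [Module.Finite R M] (p : Ideal R) [p.IsPrime]
    {q : PrimeSpectrum (Localization.AtPrime p)}
    (hq : q ∈ Module.support (Localization.AtPrime p) (LocalizedModule p.primeCompl M)) :
    PrimeSpectrum.comap (algebraMap R (Localization.AtPrime p)) q ∈ Module.support R M := by
  obtain ⟨z, hz⟩ := Module.mem_support_iff_exists_annihilator.1 hq
  induction z using LocalizedModule.induction_on with
  | h m s =>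
    refine Module.mem_support_iff_exists_annihilator.2 ⟨m, fun r hr => hz ?_⟩
    rw [Submodule.mem_annihilator_span_singleton] at hr ⊢
    rw [algebraMap_smul, LocalizedModule.smul'_mk, hr, LocalizedModule.zero_mk]

/-- Chains below and above a prime of the support concatenate. -/
theorem supportDim_localizedModule_add_le [Module.Finite R M] (p : Ideal R) [hp : p.IsPrime]
    (h : (⟨p, hp⟩ : PrimeSpectrum R) ∈ Module.support R M) :
    Module.supportDim (Localization.AtPrime p) (LocalizedModule p.primeCompl M) +
      ringKrullDim (R ⧸ p) ≤ Module.supportDim R M := by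
  let P : Module.support R M := ⟨⟨p, hp⟩, h⟩
  have : Nonempty (Module.support R M) := ⟨P⟩
  have h1 : Module.supportDim (Localization.AtPrime p) (LocalizedModule p.primeCompl M) ≤
      (Order.height P : WithBot ℕ∞) := by
    rw [Order.height_eq_krullDim_Iic]
    refine Order.krullDim_le_of_strictMono
      (fun q => ⟨⟨PrimeSpectrum.comap (algebraMap R (Localization.AtPrime p)) q.1,
        mem_support_comap p q.2⟩, ?_⟩) fun a b hab => ?_
    · exact (Ideal.comap_mono (IsLocalRing.le_maximalIdeal q.1.isPrime.ne_top)).trans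
        (Localization.AtPrime.under_maximalIdeal).le
    · refine lt_of_le_of_ne (Ideal.comap_mono hab.le) fun e => hab.ne (Subtype.ext ?_)
      exact PrimeSpectrum.localization_comap_injective _ p.primeCompl
        (congrArg (fun z => (z : Set.Iic P).1.1) e)
  have h2 : ringKrullDim (R ⧸ p) ≤ (Order.coheight P : WithBot ℕ∞) := by
    rw [ringKrullDim_quotient, Order.coheight_eq_krullDim_Ici]
    exact Order.krullDim_le_of_strictMono
      (fun q => ⟨⟨q.1, Module.mem_support_mono (by exact q.2) h⟩, q.2⟩) fun _ _ hab => hab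
  refine (add_le_add h1 h2).trans ?_
  rw [← WithBot.coe_add]
  change _ ≤ Order.krullDim (Module.support R M)
  rw [Order.krullDim_eq_iSup_height_add_coheight_of_nonempty, WithBot.coe_le_coe]
  exact le_iSup (fun a : Module.support R M => Order.height a + Order.coheight a) P

theorem withBot_add_coe_cancel {a b : WithBot ℕ∞} (n : ℕ)
    (h : a + (n : WithBot ℕ∞) ≤ b + (n : WithBot ℕ∞)) : a ≤ b := by
  induction a with
  | bot => exact bot_le
  | coe a =>
    induction b with
    | bot => simp at h
    | coe b =>
      rw [show (n : WithBot ℕ∞) = ((n : ℕ∞) : WithBot ℕ∞) from rfl, ← WithBot.coe_add,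
        ← WithBot.coe_add, WithBot.coe_le_coe,
        ENat.add_le_add_iff_right (ENat.natCast_ne_top n)] at h
      exact WithBot.coe_le_coe.2 h

variable [IsLocalRing R] [IsNoetherianRing R]

omit [IsLocalRing R] in
theorem mem_support_of_mem_associatedPrimes {p : Ideal R} [hp' : p.IsPrime]
    (hp : p ∈ associatedPrimes R M) : (⟨p, hp'⟩ : PrimeSpectrum R) ∈ Module.support R M := by
  obtain ⟨_, m, hm⟩ := isAssociatedPrime_iff.1 hp
  exact Module.mem_support_iff_exists_annihilator.2
    ⟨m, le_of_eq (by rw [← Submodule.bot_colon']; exact hm.symm)⟩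

theorem exists_supportDim_eq_natCast [Nontrivial M] :
    ∃ d : ℕ, Module.supportDim R M = d := by
  have h1 : Module.supportDim R M < ⊤ :=
    (Module.supportDim_le_ringKrullDim R M).trans_lt ringKrullDim_lt_top
  cases hd : Module.supportDim R M with
  | bot => exact absurd hd (Module.supportDim_ne_bot_of_nontrivial R M)
  | coe d =>
    cases d with
    | top => rw [hd] at h1; exact absurd h1 (lt_irrefl _)
    | coe d => exact ⟨d, rfl⟩

theorem exists_ringKrullDim_quotient_eq_natCast (p : Ideal R) (hp : p ≠ ⊤) :
    ∃ r : ℕ, ringKrullDim (R ⧸ p) = r := by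
  have : Nontrivial (R ⧸ p) := Ideal.Quotient.nontrivial_iff.2 hp
  obtain ⟨r, hr⟩ := exists_supportDim_eq_natCast (R := R) (M := R ⧸ p)
  exact ⟨r, (Module.supportDim_quotient_eq_ringKrullDim p).symm.trans hr⟩

variable [Module.Finite R M]

/-- The depth is at most the dimension of each associated prime. -/
theorem depth_le_of_mem_associatedPrimes {p : Ideal R} (hp : p ∈ associatedPrimes R M) :
    ((LocCoh.depth R M : ℕ∞) : WithBot ℕ∞) ≤ ringKrullDim (R ⧸ p) := by
  obtain ⟨hprime, m, hm⟩ := isAssociatedPrime_iff.1 hp
  obtain ⟨r, hr⟩ := exists_ringKrullDim_quotient_eq_natCast p hprime.ne_top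
  rw [hr]
  refine WithBot.coe_le_coe.2 (le_of_not_gt fun hlt => ?_)
  have hd : ((r + 1 : ℕ) : ℕ∞) ≤ LocCoh.idealDepth (maximalIdeal R) M := by
    rw [Nat.cast_succ]; exact Order.add_one_le_of_lt hlt
  have := subsingleton_ext_of_supportDim_le (R ⧸ p) hd
    ((Module.supportDim_quotient_eq_ringKrullDim p).trans_le hr.le) (i := 0) (by omega)
  have hp' : p ≤ LinearMap.ker (LinearMap.toSpanSingleton R M m) := fun x hx => by
    rw [hm] at hx
    simpa using hx
  have h0 : ModuleCat.ofHom (Submodule.liftQ p _ hp') = 0 :=
    Ext.homEquiv₀.symm.injective (Subsingleton.elim _ _)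
  have hm0 : m = 0 := by
    have := congr($(h0).hom (Submodule.Quotient.mk (1 : R)))
    change p.liftQ _ hp' (Submodule.Quotient.mk (1 : R)) = 0 at this
    rwa [Submodule.liftQ_apply, LinearMap.toSpanSingleton_apply, one_smul] at this
  exact hprime.ne_top (by rw [hm, hm0]; ext; simp)

theorem depth_le_supportDim [Nontrivial M] :
    ((LocCoh.depth R M : ℕ∞) : WithBot ℕ∞) ≤ Module.supportDim R M := by
  obtain ⟨p, hp⟩ := associatedPrimes.nonempty R M
  have := IsAssociatedPrime.isPrime hp
  exact (depth_le_of_mem_associatedPrimes hp).trans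
    (ringKrullDim_quotient_le_supportDim (mem_support_of_mem_associatedPrimes hp))

theorem exists_depth_eq_natCast [Nontrivial M] : ∃ n : ℕ, LocCoh.depth R M = n := by
  obtain ⟨d, hd⟩ := exists_supportDim_eq_natCast (R := R) (M := M)
  have h := (depth_le_supportDim (R := R) (M := M)).trans hd.le
  cases hn : LocCoh.depth R M with
  | top =>
    rw [hn] at h
    exact absurd (WithBot.coe_le_coe.1 h) (by simp)
  | coe n => exact ⟨n, rfl⟩

omit [IsNoetherianRing R] [Module.Finite R M] in
theorem idealDepth_le_depth {I : Ideal R} (hI : I ≠ ⊤) :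
    LocCoh.idealDepth I M ≤ LocCoh.depth R M :=
  idealDepth_mono (le_maximalIdeal hI)

omit [IsNoetherianRing R] in
theorem smul_top_ne_top [Nontrivial M] {I : Ideal R} (hI : I ≠ ⊤) :
    I • (⊤ : Submodule R M) ≠ ⊤ := fun h =>
  Submodule.top_ne_ideal_smul_of_le_jacobson_annihilator
    ((le_maximalIdeal hI).trans (maximalIdeal_le_jacobson _)) h.symm

omit [IsNoetherianRing R] [Module.Finite R M] in
theorem nontrivial_of_isCohenMacaulayModule (hM : LocCoh.IsCohenMacaulayModule R M) :
    Nontrivial M := by
  by_contra h
  rw [not_nontrivial_iff_subsingleton] at h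
  rw [LocCoh.IsCohenMacaulayModule, Module.supportDim_eq_bot_of_subsingleton] at hM
  exact WithBot.bot_ne_coe hM

/-- Cutting by a regular element preserves and reflects the Cohen–Macaulay property. -/
theorem isCohenMacaulayModule_quotSMulTop_iff {x : R} (hx : x ∈ maximalIdeal R)
    (hreg : IsSMulRegular M x) :
    LocCoh.IsCohenMacaulayModule R (QuotSMulTop x M) ↔ LocCoh.IsCohenMacaulayModule R M := by
  unfold LocCoh.IsCohenMacaulayModule LocCoh.depth
  rw [← Module.supportDim_quotSMulTop_succ_eq_supportDim hreg hx,
    ← idealDepth_quotSMulTop_add_one hx hreg, WithBot.coe_add]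
  refine ⟨fun h => by rw [h]; rfl, fun h => le_antisymm ?_ ?_⟩
  · exact withBot_add_coe_cancel 1 (by exact_mod_cast h.le)
  · exact withBot_add_coe_cancel 1 (by exact_mod_cast h.ge)

/-- A Cohen–Macaulay module is equidimensional without embedded primes. -/
theorem ringKrullDim_quotient_eq_of_mem_associatedPrimes (hM : LocCoh.IsCohenMacaulayModule R M)
    {p : Ideal R} (hp : p ∈ associatedPrimes R M) :
    ringKrullDim (R ⧸ p) = Module.supportDim R M := by
  have := IsAssociatedPrime.isPrime hp
  exact le_antisymm (ringKrullDim_quotient_le_supportDim (mem_support_of_mem_associatedPrimes hp))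
    (hM.le.trans (depth_le_of_mem_associatedPrimes hp))

/-- `dim M = dim M/IM + depth_I M` for Cohen–Macaulay modules. -/
theorem supportDim_eq_quotient_add_idealDepth (hM : LocCoh.IsCohenMacaulayModule R M) {I : Ideal R}
    (hI : I ≠ ⊤) :
    Module.supportDim R M = Module.supportDim R (M ⧸ I • (⊤ : Submodule R M)) +
      ((LocCoh.idealDepth I M : ℕ∞) : WithBot ℕ∞) := by
  have := nontrivial_of_isCohenMacaulayModule hM
  obtain ⟨d, hd⟩ := exists_depth_eq_natCast (R := R) (M := M)
  have hgd : LocCoh.idealDepth I M ≤ d := hd ▸ idealDepth_le_depth hI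
  clear hd
  obtain ⟨g, hg⟩ := ENat.ne_top_iff_exists.1 (ne_top_of_le_ne_top (ENat.natCast_ne_top d) hgd)
  clear hgd
  induction g generalizing M with
  | zero =>
    rw [← hg, Nat.cast_zero, WithBot.coe_zero, add_zero]
    refine le_antisymm ?_
      (Module.supportDim_le_of_surjective _ (Submodule.mkQ_surjective _))
    have hno : ∀ r ∈ I, ¬ IsSMulRegular M r := fun r hr hreg => by
      have := one_le_idealDepth_of_regular hr hreg
      rw [← hg] at this
      simp at this
    obtain ⟨p, hp, hle⟩ := exists_associatedPrime_ge hno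
    have := IsAssociatedPrime.isPrime hp
    rw [← ringKrullDim_quotient_eq_of_mem_associatedPrimes hM hp]
    exact ringKrullDim_quotient_le_supportDim_quotient (mem_support_of_mem_associatedPrimes hp) hle
  | succ g ih =>
    obtain ⟨x, hx, hreg⟩ := exists_isSMulRegular_of_one_le_idealDepth (smul_top_ne_top hI)
      (show (1 : ℕ∞) ≤ LocCoh.idealDepth I M by rw [← hg]; exact_mod_cast Nat.succ_pos g)
    have hxm : x ∈ maximalIdeal R := le_maximalIdeal hI hx
    have hM' := (isCohenMacaulayModule_quotSMulTop_iff hxm hreg).2 hM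
    have hg' : LocCoh.idealDepth I (QuotSMulTop x M) = g := by
      have h := idealDepth_quotSMulTop_add_one hx hreg
      rw [← hg, Nat.cast_succ] at h
      exact le_antisymm ((ENat.add_le_add_iff_right ENat.one_ne_top).1 h.le)
        ((ENat.add_le_add_iff_right ENat.one_ne_top).1 h.ge)
    have hsupp : Module.support R (QuotSMulTop x M ⧸ I • (⊤ : Submodule R (QuotSMulTop x M))) =
        Module.support R (M ⧸ I • (⊤ : Submodule R M)) := by
      rw [Module.support_quotient, Module.support_quotient, Module.support_quotSMulTop]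
      exact Set.ext fun q => ⟨fun h => ⟨h.1.1, h.2⟩,
        fun h => ⟨⟨h.1, by simpa using h.2 hx⟩, h.2⟩⟩
    rw [← Module.supportDim_quotSMulTop_succ_eq_supportDim hreg hxm,
      ih hM' (nontrivial_of_isCohenMacaulayModule hM') hg'.symm]
    unfold Module.supportDim
    rw [hsupp, hg', ← hg, Nat.cast_succ, WithBot.coe_add, add_assoc]
    rfl

/-- Localization of a Cohen–Macaulay module at a prime of the support. -/
theorem isCohenMacaulayModule_localizedModule (hM : LocCoh.IsCohenMacaulayModule R M) (p : Ideal R)
    [hp : p.IsPrime] (h : (⟨p, hp⟩ : PrimeSpectrum R) ∈ Module.support R M) :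
    LocCoh.IsCohenMacaulayModule (Localization.AtPrime p) (LocalizedModule p.primeCompl M) ∧
      LocCoh.idealDepth p M =
        LocCoh.depth (Localization.AtPrime p) (LocalizedModule p.primeCompl M) ∧
      Module.supportDim R M = ringKrullDim (R ⧸ p) +
        Module.supportDim (Localization.AtPrime p) (LocalizedModule p.primeCompl M) := by
  have : Nontrivial (LocalizedModule p.primeCompl M) := h
  have : Module.Flat R (Localization.AtPrime p) := IsLocalization.flat _ p.primeCompl
  have h1 : Module.supportDim R (M ⧸ p • (⊤ : Submodule R M)) = ringKrullDim (R ⧸ p) := by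
    refine le_antisymm ?_ (ringKrullDim_quotient_le_supportDim_quotient h le_rfl)
    rw [ringKrullDim_quotient, Module.supportDim, Module.support_quotient]
    exact Order.krullDim_le_of_strictMono (fun q => ⟨q.1, q.2.2⟩) fun _ _ hab => hab
  have h2 := supportDim_eq_quotient_add_idealDepth hM hp.ne_top
  rw [h1] at h2
  have h3 : LocCoh.idealDepth p M ≤
      LocCoh.depth (Localization.AtPrime p) (LocalizedModule p.primeCompl M) := by
    refine (idealDepth_le_baseChange (B := Localization.AtPrime p)).trans ?_
    rw [Localization.AtPrime.map_eq_maximalIdeal, LocCoh.depth,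
      idealDepth_congr (IsLocalizedModule.isBaseChange p.primeCompl (Localization.AtPrime p)
        (LocalizedModule.mkLinearMap p.primeCompl M)).equiv]
  have h4 := depth_le_supportDim (R := Localization.AtPrime p)
    (M := LocalizedModule p.primeCompl M)
  have h5 := supportDim_localizedModule_add_le p h
  obtain ⟨r, hr⟩ := exists_ringKrullDim_quotient_eq_natCast p hp.ne_top
  rw [hr] at h2 h5 ⊢
  have h6 : Module.supportDim (Localization.AtPrime p) (LocalizedModule p.primeCompl M) ≤
      ((LocCoh.idealDepth p M : ℕ∞) : WithBot ℕ∞) :=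
    withBot_add_coe_cancel r (h5.trans_eq (h2.trans (add_comm _ _)))
  have h3' := WithBot.coe_le_coe.2 h3
  refine ⟨le_antisymm (h6.trans h3') h4, ?_, ?_⟩
  · exact le_antisymm h3 (WithBot.coe_le_coe.1 (h4.trans h6))
  · rw [h2, le_antisymm h6 (h3'.trans h4)]

omit [IsLocalRing R] [IsNoetherianRing R] in
theorem supportDim_eq_ringKrullDim_of_isPrime (p : Ideal R) [p.IsPrime] :
    Module.supportDim (Localization.AtPrime p) (LocalizedModule p.primeCompl R) =
      (p.height : WithBot ℕ∞) := by
  rw [Module.supportDim_eq_of_equiv ((IsLocalizedModule.iso p.primeCompl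
    (Algebra.linearMap R (Localization.AtPrime p))).extendScalarsOfIsLocalization p.primeCompl
      (Localization.AtPrime p)), Module.supportDim_self_eq_ringKrullDim,
    IsLocalization.AtPrime.ringKrullDim_eq_height p]

omit [IsLocalRing R] in
/-- The depth along `I` is the infimum of the local depths on `V(I)`. -/
theorem natCast_le_idealDepth_iff_forall_localized {I : Ideal R} (n : ℕ) :
    (n : ℕ∞) ≤ LocCoh.idealDepth I M ↔ ∀ p : PrimeSpectrum R, I ≤ p.asIdeal →
      (n : ℕ∞) ≤ LocCoh.depth (Localization.AtPrime p.asIdeal)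
        (LocalizedModule p.asIdeal.primeCompl M) := by
  rw [natCast_le_idealDepth_iff_forall_local]
  refine forall₂_congr fun p _ => ?_
  rw [LocCoh.depth, idealDepth_congr (IsLocalizedModule.isBaseChange p.asIdeal.primeCompl
    (Localization.AtPrime p.asIdeal) (LocalizedModule.mkLinearMap p.asIdeal.primeCompl M)).equiv]

omit [IsLocalRing R] [IsNoetherianRing R] in
theorem depth_localizedModule_self (p : Ideal R) [p.IsPrime] :
    LocCoh.depth (Localization.AtPrime p) (LocalizedModule p.primeCompl R) =
      LocCoh.depth (Localization.AtPrime p) (Localization.AtPrime p) :=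
  idealDepth_congr ((IsLocalizedModule.iso p.primeCompl
    (Algebra.linearMap R (Localization.AtPrime p))).extendScalarsOfIsLocalization p.primeCompl
      (Localization.AtPrime p))

omit [IsLocalRing R] [IsNoetherianRing R] in
/-- A regular local ring is Cohen–Macaulay. -/
theorem isCohenMacaulayLocalRing_of_isRegularLocalRing [IsRegularLocalRing R] :
    LocCoh.IsCohenMacaulayLocalRing R where
  supportDim_eq_depth := by
    refine le_antisymm ?_ depth_le_supportDim
    obtain ⟨x, hx⟩ := RegLoc.exists_fin_generators R
    rw [Module.supportDim_self_eq_ringKrullDim, ← IsRegularLocalRing.spanFinrank_maximalIdeal]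
    have h := length_le_idealDepth (I := maximalIdeal R)
      (RegLoc.isRegular_of_span_range _ R x hx rfl).toIsWeaklyRegular fun r hr => by
        obtain ⟨i, rfl⟩ := List.mem_ofFn.1 hr
        exact hx ▸ Ideal.subset_span ⟨i, rfl⟩
    rw [List.length_ofFn] at h
    exact WithBot.coe_le_coe.2 h

end Groth.Agent.DepthLib
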