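import Groth.Agent.Lib.Depth.BaseChange
import Groth.Agent.Lib.Depth.CM
import Mathlib

/-!
# Depth and Serre's conditions for submodules, kernels, and finite products
-/

namespace Groth.Agent.DepthLib

universe u

open CategoryTheory Abelian

variable {A : Type u} [CommRing A] [IsNoetherianRing A]

theorem supportDim_le_of_injective' {M N : Type u} [AddCommGroup M] [Module A M] [AddCommGroup N]
    [Module A N] (f : N →ₗ[A] M) (hf : Function.Injective f) :
    Module.supportDim A N ≤ Module.supportDim A M :=
  Module.supportDim_le_of_injective f hf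

variable {M N : Type u} [AddCommGroup M] [Module A M] [Module.Finite A M] [AddCommGroup N]
  [Module A N] [Module.Finite A N]

theorem one_le_idealDepth_of_injective (I : Ideal A) (f : N →ₗ[A] M) (hf : Function.Injective f)
    (h : 1 ≤ LocCoh.idealDepth I M) : 1 ≤ LocCoh.idealDepth I N := by
  have h' := (natCast_le_idealDepth_iff (I := I) (M := M) 1).1 (by exact_mod_cast h) 0 Nat.one_pos
  refine (natCast_le_idealDepth_iff (I := I) (M := N) 1).2 fun i hi => ?_
  obtain rfl : i = 0 := by omega
  refine subsingleton_of_forall_eq 0 fun a => ?_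
  obtain ⟨g, rfl⟩ := (Ext.mk₀_bijective _ _).2 a
  have h0 : g ≫ ModuleCat.ofHom f = 0 := (Ext.mk₀_bijective _ _).1 (@Subsingleton.elim _ h' _ _)
  rw [show g = 0 from ModuleCat.hom_ext (LinearMap.ext fun x => hf (by
    rw [ModuleCat.hom_zero, LinearMap.zero_apply, map_zero]
    exact congr(($h0).hom x))), Ext.mk₀_zero]

theorem two_le_idealDepth_ker (I : Ideal A) (u : N →ₗ[A] M) (hN : 2 ≤ LocCoh.idealDepth I N)
    (hM : 1 ≤ LocCoh.idealDepth I M) : 2 ≤ LocCoh.idealDepth I (LinearMap.ker u) := by
  let S : ShortComplex (ModuleCat.{u} A) := ShortComplex.mk (ModuleCat.ofHom (LinearMap.ker u).subtype)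
    (ModuleCat.ofHom u.rangeRestrict) (by ext z; exact LinearMap.mem_ker.mp z.2)
  have hS : S.ShortExact :=
    { exact := by
        rw [ShortComplex.moduleCat_exact_iff]
        intro z hz
        exact ⟨⟨z, congrArg Subtype.val hz⟩, rfl⟩
      mono_f := (ModuleCat.mono_iff_injective _).mpr (LinearMap.ker u).injective_subtype
      epi_g := (ModuleCat.epi_iff_surjective _).mpr u.surjective_rangeRestrict }
  haveI : Module.Finite A S.X₁ := inferInstanceAs (Module.Finite A (LinearMap.ker u))
  haveI : Module.Finite A S.X₂ := inferInstanceAs (Module.Finite A N)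
  haveI : Module.Finite A S.X₃ := inferInstanceAs (Module.Finite A (LinearMap.range u))
  refine le_trans (le_min hN ?_) (idealDepth_shortExact (I := I) hS).2.2
  calc (2 : ℕ∞) = 1 + 1 := rfl
    _ ≤ _ := add_le_add_left (one_le_idealDepth_of_injective I _ (LinearMap.range u).injective_subtype hM) 1

theorem min_idealDepth_le_prod (I : Ideal A) :
    min (LocCoh.idealDepth I M) (LocCoh.idealDepth I N) ≤ LocCoh.idealDepth I (M × N) := by
  let S : ShortComplex (ModuleCat.{u} A) := ShortComplex.mk (ModuleCat.ofHom (LinearMap.inl A M N))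
    (ModuleCat.ofHom (LinearMap.snd A M N)) (by ext z; rfl)
  have hS : S.ShortExact :=
    { exact := by
        rw [ShortComplex.moduleCat_exact_iff]
        intro z hz
        exact ⟨z.1, Prod.ext rfl hz.symm⟩
      mono_f := (ModuleCat.mono_iff_injective _).mpr LinearMap.inl_injective
      epi_g := (ModuleCat.epi_iff_surjective _).mpr LinearMap.snd_surjective }
  haveI : Module.Finite A S.X₁ := inferInstanceAs (Module.Finite A M)
  haveI : Module.Finite A S.X₂ := inferInstanceAs (Module.Finite A (M × N))
  haveI : Module.Finite A S.X₃ := inferInstanceAs (Module.Finite A N)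
  exact (idealDepth_shortExact (I := I) hS).1

theorem idealDepth_le_pi (I : Ideal A) : ∀ n : ℕ,
    LocCoh.idealDepth I M ≤ LocCoh.idealDepth I (Fin n → M) := by
  intro n
  induction n with
  | zero => simp [idealDepth_of_smul_top_eq_top (Subsingleton.elim _ (⊤ : Submodule A (Fin 0 → M)))]
  | succ n ih =>
    rw [← idealDepth_congr (Fin.consLinearEquiv A fun _ : Fin (n + 1) => M)]
    exact (le_min le_rfl ih).trans (min_idealDepth_le_prod I)

omit [IsNoetherianRing A] in
theorem cast_min_le_iff (k a d : ℕ) :
    min (k : WithBot ℕ∞) (a : WithBot ℕ∞) ≤ ((d : ℕ∞) : WithBot ℕ∞) ↔ min k a ≤ d := by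
  rw [WithBot.coe_natCast, ← (Nat.mono_cast (α := WithBot ℕ∞)).map_min]
  exact Nat.cast_le

omit [IsNoetherianRing A] in
theorem support_pi_subset (n : ℕ) : Module.support A (Fin n → M) ⊆ Module.support A M := by
  intro p hp
  by_contra h
  rw [Module.notMem_support_iff'] at h
  refine Module.notMem_support_iff'.mpr (fun v => ?_) hp
  choose r hr hrv using fun i => h (v i)
  refine ⟨∏ i, r i, fun hmem => ?_, funext fun i => ?_⟩
  · obtain ⟨i, -, hi⟩ := (Ideal.IsPrime.prod_mem_iff (p := p.asIdeal)).mp hmem
    exact hr i hi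
  · classical
    rw [Pi.smul_apply, ← Finset.prod_erase_mul _ _ (Finset.mem_univ i), mul_smul, hrv i, smul_zero,
      Pi.zero_apply]

omit [IsNoetherianRing A] in
theorem supportDim_pi_le (n : ℕ) : Module.supportDim A (Fin n → M) ≤ Module.supportDim A M :=
  Order.krullDim_le_of_strictMono (fun q => (⟨q.1, support_pi_subset n q.2⟩ : Module.support A M))
    (fun _ _ h => h)

/-- Localized depth and dimension are invariant under isomorphism. -/
theorem hasSk_congr {k : ℕ} (e : M ≃ₗ[A] N) (h : LocCoh.HasSk k A M) : LocCoh.HasSk k A N := by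
  intro p _
  have e' : LocalizedModule p.primeCompl M ≃ₗ[Localization.AtPrime p] LocalizedModule p.primeCompl N :=
    IsLocalizedModule.mapEquiv p.primeCompl (LocalizedModule.mkLinearMap p.primeCompl M)
      (LocalizedModule.mkLinearMap p.primeCompl N) (Localization.AtPrime p) e
  rw [LocCoh.depth, ← idealDepth_congr e', ← Module.supportDim_eq_of_equiv e']
  exact h p

/-- Serre's condition passes to finite free modules. -/
theorem hasSk_pi {k : ℕ} (h : LocCoh.HasSk k A M) (n : ℕ) : LocCoh.HasSk k A (Fin n → M) := by
  intro p _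
  let f : (Fin n → M) →ₗ[A] (Fin n → LocalizedModule p.primeCompl M) :=
    LinearMap.pi fun i => (LocalizedModule.mkLinearMap p.primeCompl M) ∘ₗ LinearMap.proj i
  haveI : IsLocalizedModule p.primeCompl f := inferInstance
  let e : LocalizedModule p.primeCompl (Fin n → M) ≃ₗ[Localization.AtPrime p]
      (Fin n → LocalizedModule p.primeCompl M) :=
    (IsLocalizedModule.iso p.primeCompl f).extendScalarsOfIsLocalization p.primeCompl _
  rw [LocCoh.depth, idealDepth_congr e, Module.supportDim_eq_of_equiv e]
  refine (min_le_min le_rfl (supportDim_pi_le n)).trans ((h p).trans ?_)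
  exact_mod_cast idealDepth_le_pi _ n

/-- `(S₁)` passes to submodules, `(S₂)` to suitable kernels. -/
theorem hasSk_one_ker (u : N →ₗ[A] M) (h : LocCoh.HasSk 1 A N) :
    LocCoh.HasSk 1 A (LinearMap.ker u) := by
  intro p _
  let g := LocalizedModule.map p.primeCompl (LinearMap.ker u).subtype
  have hg : Function.Injective g :=
    LocalizedModule.map_injective _ _ (LinearMap.ker u).injective_subtype
  by_cases hd : 1 ≤ LocCoh.depth (Localization.AtPrime p) (LocalizedModule p.primeCompl N)
  · refine (min_le_left _ _).trans ?_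
    have h1 := one_le_idealDepth_of_injective _ g hg hd
    exact_mod_cast h1
  · have h0 : LocCoh.depth (Localization.AtPrime p) (LocalizedModule p.primeCompl N) = 0 :=
      Order.lt_one_iff.mp (not_le.mp hd)
    have := h p
    rw [h0, min_le_iff] at this
    refine (min_le_right _ _).trans (((Module.supportDim_le_of_injective g hg).trans ?_).trans
      (WithBot.coe_le_coe.mpr zero_le))
    rcases this with h2 | h2
    · exact absurd h2 (by norm_num)
    · exact h2

theorem hasSk_two_ker (u : N →ₗ[A] M) (hsupp : Module.support A (LinearMap.ker u) ⊆ Module.support A M)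
    (hM : LocCoh.HasSk 1 A M) (hN : LocCoh.HasSk 2 A N) : LocCoh.HasSk 2 A (LinearMap.ker u) := by
  intro p _
  let g := LocalizedModule.map p.primeCompl (LinearMap.ker u).subtype
  have hg : Function.Injective g :=
    LocalizedModule.map_injective _ _ (LinearMap.ker u).injective_subtype
  let u' := LocalizedModule.map p.primeCompl u
  have hex : Function.Exact g u' :=
    LocalizedModule.map_exact p.primeCompl _ _ (LinearMap.exact_subtype_ker_map u)
  let e : LocalizedModule p.primeCompl (LinearMap.ker u) ≃ₗ[Localization.AtPrime p] LinearMap.ker u' :=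
    (LinearEquiv.ofInjective g hg).trans (LinearEquiv.ofEq _ _ (LinearMap.exact_iff.mp hex).symm)
  rcases subsingleton_or_nontrivial (LocalizedModule p.primeCompl (LinearMap.ker u)) with hs | hs
  · rw [Module.supportDim_eq_bot_of_subsingleton]; simp
  obtain ⟨a, ha⟩ := exists_supportDim_eq_natCast (R := Localization.AtPrime p)
    (M := LocalizedModule p.primeCompl (LinearMap.ker u))
  rw [ha]
  haveI hNn : Nontrivial (LocalizedModule p.primeCompl N) := hg.nontrivial
  have hM' : Nontrivial (LocalizedModule p.primeCompl M) :=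
    (Module.mem_support_iff (p := ⟨p, inferInstance⟩)).mp
      (hsupp ((Module.mem_support_iff (p := ⟨p, inferInstance⟩)).mpr hs))
  obtain ⟨b, hb⟩ := exists_supportDim_eq_natCast (R := Localization.AtPrime p)
    (M := LocalizedModule p.primeCompl N)
  obtain ⟨dN, hdN⟩ := exists_depth_eq_natCast (R := Localization.AtPrime p)
    (M := LocalizedModule p.primeCompl N)
  obtain ⟨c, hc⟩ := exists_supportDim_eq_natCast (R := Localization.AtPrime p)
    (M := LocalizedModule p.primeCompl M)
  obtain ⟨dM, hdM⟩ := exists_depth_eq_natCast (R := Localization.AtPrime p)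
    (M := LocalizedModule p.primeCompl M)
  obtain ⟨dK, hdK⟩ := exists_depth_eq_natCast (R := Localization.AtPrime p)
    (M := LocalizedModule p.primeCompl (LinearMap.ker u))
  have hab : a ≤ b := by
    have := Module.supportDim_le_of_injective g hg
    rw [ha, hb] at this
    exact_mod_cast this
  have hac : a ≤ c := by
    have : Module.supportDim (Localization.AtPrime p) (LocalizedModule p.primeCompl (LinearMap.ker u)) ≤
        Module.supportDim (Localization.AtPrime p) (LocalizedModule p.primeCompl M) := by
      refine Order.krullDim_le_of_strictMono (fun q => (⟨q.1, ?_⟩ :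
        Module.support (Localization.AtPrime p) (LocalizedModule p.primeCompl M))) (fun _ _ h => h)
      obtain ⟨q, hq⟩ := q
      have h1 := hsupp (mem_support_comap p hq)
      rw [Module.mem_support_iff_exists_annihilator] at h1 ⊢
      obtain ⟨m, hm⟩ := h1
      refine ⟨LocalizedModule.mkLinearMap p.primeCompl M m, fun r hr => ?_⟩
      obtain ⟨x, s, rfl⟩ := IsLocalization.exists_mk'_eq p.primeCompl r
      rw [Submodule.mem_annihilator_span_singleton] at hr
      have hx : algebraMap A (Localization.AtPrime p) x • LocalizedModule.mkLinearMap p.primeCompl M m = 0 := by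
        rw [← IsLocalization.mk'_spec (Localization.AtPrime p) x s, mul_comm, mul_smul, hr, smul_zero]
      rw [algebraMap_smul, ← map_smul, IsLocalizedModule.eq_zero_iff p.primeCompl] at hx
      obtain ⟨t, ht⟩ := hx
      have h2 : (t : A) * x ∈ (Submodule.span A {m}).annihilator := by
        rw [Submodule.mem_annihilator_span_singleton, mul_smul]; exact ht
      have h3 : algebraMap A (Localization.AtPrime p) x ∈ q.asIdeal :=
        ((PrimeSpectrum.comap (algebraMap A (Localization.AtPrime p)) q).2.mem_or_mem (hm h2)).resolve_left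
          fun h => q.2.ne_top (Ideal.eq_top_of_isUnit_mem _ h
            (IsLocalization.map_units (Localization.AtPrime p) t))
      rw [IsLocalization.mk'_eq_mul_mk'_one]
      exact Ideal.mul_mem_right _ _ h3
    rw [ha, hc] at this
    exact_mod_cast this
  have h1 := hN p
  have h2 := hM p
  rw [hb, hdN] at h1
  rw [hc, hdM] at h2
  rw [hdK]
  have h1' : min 2 b ≤ dN := (cast_min_le_iff 2 b dN).mp h1
  have h2' : min 1 c ≤ dM := (cast_min_le_iff 1 c dM).mp h2
  refine (cast_min_le_iff 2 a dK).mpr ?_
  rcases Nat.lt_or_ge a 1 with ha1 | ha1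
  · omega
  have hk1 : 1 ≤ dK := by
    have h3 := one_le_idealDepth_of_injective (IsLocalRing.maximalIdeal (Localization.AtPrime p)) g hg
      (show (1 : ℕ∞) ≤ LocCoh.depth (Localization.AtPrime p) (LocalizedModule p.primeCompl N) by
        rw [hdN]; exact_mod_cast (show 1 ≤ dN by omega))
    have h4 : (1 : ℕ∞) ≤ LocCoh.depth (Localization.AtPrime p)
        (LocalizedModule p.primeCompl (LinearMap.ker u)) := h3
    rw [hdK] at h4
    exact_mod_cast h4
  rcases Nat.lt_or_ge a 2 with ha2 | ha2
  · omega
  have h3 : (2 : ℕ∞) ≤ LocCoh.depth (Localization.AtPrime p)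
      (LocalizedModule p.primeCompl (LinearMap.ker u)) := by
    rw [LocCoh.depth, idealDepth_congr e]
    refine two_le_idealDepth_ker _ u' ?_ ?_
    · show (2 : ℕ∞) ≤ LocCoh.depth (Localization.AtPrime p) (LocalizedModule p.primeCompl N)
      rw [hdN]; exact_mod_cast (show 2 ≤ dN by omega)
    · show (1 : ℕ∞) ≤ LocCoh.depth (Localization.AtPrime p) (LocalizedModule p.primeCompl M)
      rw [hdM]; exact_mod_cast (show 1 ≤ dM by omega)
  rw [hdK] at h3
  have : 2 ≤ dK := by exact_mod_cast h3
  omega

end Groth.Agent.DepthLib
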