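import Groth.Agent.Lib.Depth.SkOps
import Mathlib

/-!
# Depth of modules of homomorphisms
-/

namespace Groth.Agent.DepthLib

universe u

variable {A : Type u} [CommRing A] [IsNoetherianRing A]
  {M N : Type u} [AddCommGroup M] [Module A M] [Module.Finite A M] [AddCommGroup N] [Module A N]

/-- `Hom(M, N)` is the kernel of a map between finite powers of `N`. -/
theorem exists_linearMap_ker_equiv :
    ∃ (n m : ℕ) (u : (Fin n → N) →ₗ[A] (Fin (m + 1) → N)), Nonempty ((M →ₗ[A] N) ≃ₗ[A] LinearMap.ker u) := by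
  obtain ⟨n, f, hf⟩ := Module.Finite.exists_fin' A M
  obtain ⟨m, s, hs⟩ := Submodule.fg_iff_exists_fin_generating_family.1
    (IsNoetherian.noetherian (LinearMap.ker f))
  let r : Fin (m + 1) → (Fin n → A) := Fin.cons 0 s
  let u : (Fin n → N) →ₗ[A] (Fin (m + 1) → N) :=
    LinearMap.pi fun j => ∑ i, r j i • LinearMap.proj i
  let T : (M →ₗ[A] N) →ₗ[A] (Fin n → N) :=
    { toFun := fun φ i => φ (f (Pi.single i 1))
      map_add' := fun _ _ => rfl
      map_smul' := fun _ _ => rfl }
  have hT : ∀ (φ : M →ₗ[A] N) v, Fintype.linearCombination A (T φ) v = φ (f v) := by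
    intro φ v
    have h : φ ∘ₗ f = Fintype.linearCombination A (T φ) := LinearMap.pi_ext' fun i => LinearMap.ext_ring (by
      show φ (f (Pi.single i 1)) = Fintype.linearCombination A (T φ) (Pi.single i 1)
      rw [Fintype.linearCombination_apply_single, one_smul]
      rfl)
    exact (LinearMap.congr_fun h v).symm
  have hu : ∀ w j, u w j = Fintype.linearCombination A w (r j) := by
    intro w j
    simp [u, Fintype.linearCombination_apply]
  have hinj : Function.Injective T := fun φ ψ h => LinearMap.ext fun x => by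
    obtain ⟨v, rfl⟩ := hf x
    rw [← hT, ← hT, h]
  refine ⟨n, m, u, ⟨(LinearEquiv.ofInjective T hinj).trans (LinearEquiv.ofEq _ _ (le_antisymm ?_ ?_))⟩⟩
  · rintro _ ⟨φ, rfl⟩
    refine LinearMap.mem_ker.2 (funext fun j => ?_)
    rw [hu, hT]
    refine Fin.cases ?_ (fun i => ?_) j
    · simp [r]
    · have : s i ∈ LinearMap.ker f := hs.le (Submodule.subset_span (Set.mem_range_self i))
      rw [show r i.succ = s i by simp [r], LinearMap.mem_ker.1 this, map_zero]
      rfl
  · intro w hw
    have hk : LinearMap.ker f ≤ LinearMap.ker (Fintype.linearCombination A w) := by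
      rw [← hs, Submodule.span_le]
      rintro _ ⟨i, rfl⟩
      have := congrFun (LinearMap.mem_ker.1 hw) i.succ
      rw [hu, show r i.succ = s i by simp [r]] at this
      exact LinearMap.mem_ker.2 this
    refine ⟨((LinearMap.ker f).liftQ _ hk) ∘ₗ (f.quotKerEquivOfSurjective hf).symm.toLinearMap, ?_⟩
    funext i
    show (LinearMap.ker f).liftQ _ hk ((f.quotKerEquivOfSurjective hf).symm (f (Pi.single i 1))) = w i
    rw [show (f.quotKerEquivOfSurjective hf).symm (f (Pi.single i 1)) = Submodule.Quotient.mk (Pi.single i 1)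
      from (LinearEquiv.symm_apply_eq _).2 rfl, Submodule.liftQ_apply,
      Fintype.linearCombination_apply_single, one_smul]

variable [Module.Finite A N]

theorem one_le_idealDepth_linearMap (I : Ideal A) (h : 1 ≤ LocCoh.idealDepth I N) :
    1 ≤ LocCoh.idealDepth I (M →ₗ[A] N) := by
  obtain ⟨n, m, u, ⟨e⟩⟩ := exists_linearMap_ker_equiv (A := A) (M := M) (N := N)
  rw [idealDepth_congr e]
  exact one_le_idealDepth_of_injective I _ (LinearMap.ker u).injective_subtype
    (h.trans (idealDepth_le_pi I n))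

theorem two_le_idealDepth_linearMap (I : Ideal A) (h : 2 ≤ LocCoh.idealDepth I N) :
    2 ≤ LocCoh.idealDepth I (M →ₗ[A] N) := by
  obtain ⟨n, m, u, ⟨e⟩⟩ := exists_linearMap_ker_equiv (A := A) (M := M) (N := N)
  rw [idealDepth_congr e]
  exact two_le_idealDepth_ker I u (h.trans (idealDepth_le_pi I n))
    ((show (1 : ℕ∞) ≤ 2 by norm_num).trans (h.trans (idealDepth_le_pi I (m + 1))))

theorem hasSk_one_linearMap (h : LocCoh.HasSk 1 A N) : LocCoh.HasSk 1 A (M →ₗ[A] N) := by
  obtain ⟨n, m, u, ⟨e⟩⟩ := exists_linearMap_ker_equiv (A := A) (M := M) (N := N)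
  exact hasSk_congr e.symm (hasSk_one_ker u (hasSk_pi h n))

theorem hasSk_two_linearMap (h : LocCoh.HasSk 2 A N) : LocCoh.HasSk 2 A (M →ₗ[A] N) := by
  obtain ⟨n, m, u, ⟨e⟩⟩ := exists_linearMap_ker_equiv (A := A) (M := M) (N := N)
  have h1 : LocCoh.HasSk 1 A N := fun p _ => (min_le_min_right _ (by norm_num)).trans (h p)
  refine hasSk_congr e.symm (hasSk_two_ker u ?_ (hasSk_pi h1 _) (hasSk_pi h n))
  refine (Module.support_subset_of_injective _ (LinearMap.ker u).injective_subtype).trans
    ((support_pi_subset n).trans (Module.support_subset_of_injective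
      (LinearMap.pi fun _ => LinearMap.id) fun a b h => ?_))
  exact congrFun h (0 : Fin (m + 1))

end Groth.Agent.DepthLib
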