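import Groth.Prelude.Def_CAlg
import Mathlib.RingTheory.Depth.Rees
import Mathlib.RingTheory.Support
import Mathlib.Algebra.Homology.DerivedCategory.Ext.ExactSequences
import Mathlib.Algebra.Homology.DerivedCategory.Ext.Linear

/-!
# `LocCoh.idealDepth` via `Ext`
-/

universe u

open CategoryTheory Abelian RingTheory.Sequence Pointwise

namespace Groth.Agent.DepthLib

variable {R : Type u} [CommRing R] {I : Ideal R}
variable {M : Type u} [AddCommGroup M] [Module R M]

theorem isRegular_of_isWeaklyRegular {rs : List R} (h : IsWeaklyRegular M rs)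
    (hI : ∀ r ∈ rs, r ∈ I) (hM : I • (⊤ : Submodule R M) ≠ ⊤) : IsRegular M rs :=
  (isRegular_iff M rs).2 ⟨h, fun e => hM (top_le_iff.1
    (e.trans_le (Submodule.smul_mono_left (Ideal.span_le.2 hI))))⟩

theorem smul_top_eq_top_iff [IsNoetherianRing R] [Module.Finite R M] :
    I • (⊤ : Submodule R M) = ⊤ ↔ I ⊔ Module.annihilator R M = ⊤ := by
  constructor
  · intro h
    obtain ⟨r, hr, hrM⟩ := Submodule.exists_sub_one_mem_and_smul_eq_zero_of_fg_of_le_smul I
      (⊤ : Submodule R M) Module.Finite.fg_top h.ge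
    rw [Ideal.eq_top_iff_one]
    exact Submodule.mem_sup.2 ⟨-(r - 1), I.neg_mem hr, r,
      Module.mem_annihilator.2 fun m => hrM m trivial, by ring⟩
  · intro h
    obtain ⟨a, ha, b, hb, hab⟩ := Submodule.mem_sup.1 (h.ge (Submodule.mem_top (x := (1 : R))))
    rw [eq_top_iff]
    intro m _
    rw [← one_smul R m, ← hab, add_smul, Module.mem_annihilator.1 hb m, add_zero]
    exact Submodule.smul_mem_smul ha trivial

theorem natCast_le_idealDepth_iff_exists (hM : I • (⊤ : Submodule R M) ≠ ⊤) (n : ℕ) :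
    (n : ℕ∞) ≤ LocCoh.idealDepth I M ↔
      ∃ rs : List R, (IsWeaklyRegular M rs ∧ ∀ r ∈ rs, r ∈ I) ∧ n ≤ rs.length := by
  rw [LocCoh.idealDepth, if_neg hM]
  constructor
  · intro h
    cases n with
    | zero => exact ⟨[], ⟨IsWeaklyRegular.nil R M, by simp⟩, le_rfl⟩
    | succ k =>
      obtain ⟨rs, h2⟩ := lt_iSup_iff.1 (lt_of_lt_of_le (Nat.cast_lt.2 (Nat.lt_succ_self k)) h)
      obtain ⟨hrs, h3⟩ := lt_iSup_iff.1 h2
      exact ⟨rs, hrs, Nat.cast_lt.1 h3⟩
  · rintro ⟨rs, hrs, hn⟩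
    exact (Nat.cast_le.2 hn).trans
      (le_iSup₂ (f := fun (rs : List R) (_ : IsWeaklyRegular M rs ∧ ∀ r ∈ rs, r ∈ I) =>
        (rs.length : ℕ∞)) rs hrs)

variable [IsNoetherianRing R]

/-- A finitely generated module supported in `V(I)` has no `Ext` into `M` below the depth. -/
theorem subsingleton_ext_of_le_idealDepth [Module.Finite R M] {n : ℕ}
    (h : (n : ℕ∞) ≤ LocCoh.idealDepth I M) (N : ModuleCat.{u} R) [Module.Finite R N]
    (hN : Module.support R N ⊆ PrimeSpectrum.zeroLocus I) {i : ℕ} (hi : i < n) :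
    Subsingleton (Ext N (ModuleCat.of R M) i) := by
  by_cases hM : I • (⊤ : Submodule R M) = ⊤
  · rw [Module.support_eq_zeroLocus, PrimeSpectrum.zeroLocus_subset_zeroLocus_iff] at hN
    have h1 : (Module.annihilator R N).radical ⊔ (Module.annihilator R M).radical = ⊤ :=
      top_le_iff.1 ((smul_top_eq_top_iff.1 hM).ge.trans
        (sup_le_sup hN Ideal.le_radical))
    have h2 : Module.annihilator R N ⊔ Module.annihilator R M = ⊤ := by
      rw [← Ideal.radical_eq_top, Ideal.radical_sup, h1, Ideal.radical_top]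
    obtain ⟨a, ha, b, hb, hab⟩ := Submodule.mem_sup.1 (h2.ge (Submodule.mem_top (x := (1 : R))))
    refine subsingleton_of_forall_eq 0 fun x => ?_
    have ha' : a • 𝟙 N = 0 := by ext m; exact Module.mem_annihilator.1 ha m
    have hb' : b • 𝟙 (ModuleCat.of R M) = 0 := by ext m; exact Module.mem_annihilator.1 hb m
    have hax : a • x = 0 := by
      rw [← Ext.mk₀_id_comp x, ← Ext.smul_comp, ← Ext.mk₀_smul, ha', Ext.mk₀_zero, Ext.zero_comp]
    rw [← one_smul R x, ← hab, add_smul, hax, zero_add, Ext.smul_eq_comp_mk₀, hb', Ext.mk₀_zero,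
      Ext.comp_zero]
  · obtain ⟨rs, ⟨hreg, hmem⟩, hn⟩ := (natCast_le_idealDepth_iff_exists hM n).1 h
    exact ModuleCat.subsingleton_ext_of_exists_isRegular I N hN (ModuleCat.of R M) (lt_top_iff_ne_top.2 hM)
      rs hmem (isRegular_of_isWeaklyRegular hreg hmem hM) i (hi.trans_le hn)

omit [IsNoetherianRing R] in
theorem support_quotient (J : Ideal R) :
    Module.support R (R ⧸ J) = PrimeSpectrum.zeroLocus (J : Set R) := by
  rw [Module.support_eq_zeroLocus, Ideal.annihilator_quotient]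

/-- Rees: `n ≤ depth_I M` iff `Ext^i(R ⧸ I, M) = 0` for all `i < n`. -/
theorem natCast_le_idealDepth_iff [Module.Finite R M] (n : ℕ) :
    (n : ℕ∞) ≤ LocCoh.idealDepth I M ↔
      ∀ i < n, Subsingleton (Ext (ModuleCat.of R (R ⧸ I)) (ModuleCat.of R M) i) := by
  refine ⟨fun h i hi => subsingleton_ext_of_le_idealDepth h _ (support_quotient I).subset hi,
    fun h => ?_⟩
  by_cases hM : I • (⊤ : Submodule R M) = ⊤
  · simp [LocCoh.idealDepth, hM]
  · obtain ⟨rs, hlen, hmem, hreg⟩ := ModuleCat.exists_isRegular_of_exists_subsingleton_ext I n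
      (ModuleCat.of R M) (lt_top_iff_ne_top.2 hM) (ModuleCat.of R (R ⧸ I)) (support_quotient I) h
    exact (natCast_le_idealDepth_iff_exists hM n).2 ⟨rs, ⟨hreg.toIsWeaklyRegular, hmem⟩, hlen.ge⟩

theorem idealDepth_eq_iff [Module.Finite R M] (n : ℕ) :
    LocCoh.idealDepth I M = n ↔
      (∀ i < n, Subsingleton (Ext (ModuleCat.of R (R ⧸ I)) (ModuleCat.of R M) i)) ∧
        Nontrivial (Ext (ModuleCat.of R (R ⧸ I)) (ModuleCat.of R M) n) := by
  rw [← not_subsingleton_iff_nontrivial]
  constructor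
  · intro h
    refine ⟨(natCast_le_idealDepth_iff n).1 h.ge, fun hs => ?_⟩
    have h2 := (natCast_le_idealDepth_iff (I := I) (M := M) (n + 1)).2 fun i hi => by
      rcases Nat.lt_succ_iff_lt_or_eq.1 hi with hi | rfl
      · exact (natCast_le_idealDepth_iff n).1 h.ge i hi
      · exact hs
    rw [h, Nat.cast_le] at h2
    omega
  · rintro ⟨h1, h2⟩
    refine le_antisymm (le_of_not_gt fun h3 => h2 ?_) ((natCast_le_idealDepth_iff n).2 h1)
    refine (natCast_le_idealDepth_iff (n + 1)).1 ?_ n (Nat.lt_succ_self n)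
    rw [Nat.cast_succ]
    exact Order.add_one_le_of_lt h3

omit [IsNoetherianRing R] in
theorem smul_ext_quotient_eq_zero {r : R} (hr : r ∈ I) {Y : ModuleCat.{u} R} {i : ℕ}
    (x : Ext (ModuleCat.of R (R ⧸ I)) Y i) : r • x = 0 := by
  have h : r • 𝟙 (ModuleCat.of R (R ⧸ I)) = 0 := by
    ext
    change r • Submodule.Quotient.mk (1 : R) = (0 : R ⧸ I)
    rw [← Submodule.Quotient.mk_smul, Submodule.Quotient.mk_eq_zero, smul_eq_mul, mul_one]
    exact hr
  rw [← Ext.mk₀_id_comp x, ← Ext.smul_comp, ← Ext.mk₀_smul, h, Ext.mk₀_zero, Ext.zero_comp]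

omit [IsNoetherianRing R] in
theorem one_le_idealDepth_of_regular {x : R} (hx : x ∈ I) (hreg : IsSMulRegular M x) :
    1 ≤ LocCoh.idealDepth I M := by
  by_cases hM : I • (⊤ : Submodule R M) = ⊤
  · simp [LocCoh.idealDepth, hM]
  · exact_mod_cast (natCast_le_idealDepth_iff_exists hM 1).2
      ⟨[x], ⟨(isWeaklyRegular_singleton_iff M x).2 hreg, by simpa using hx⟩, le_rfl⟩

/-- Cutting down by a regular element drops the depth by one. -/
theorem natCast_le_idealDepth_quotSMulTop_iff [Module.Finite R M] {x : R} (hx : x ∈ I)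
    (hreg : IsSMulRegular M x) (n : ℕ) :
    (n : ℕ∞) ≤ LocCoh.idealDepth I (QuotSMulTop x M) ↔ ((n + 1 : ℕ) : ℕ∞) ≤ LocCoh.idealDepth I M := by
  rw [natCast_le_idealDepth_iff, natCast_le_idealDepth_iff]
  have hS := IsSMulRegular.smulShortComplex_shortExact (M := ModuleCat.of R M) hreg
  constructor
  · intro h i hi
    cases i with
    | zero =>
      exact (natCast_le_idealDepth_iff (M := M) 1).1
        (by exact_mod_cast one_le_idealDepth_of_regular hx hreg) 0 Nat.one_pos
    | succ i =>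
      refine subsingleton_of_forall_eq 0 fun a => ?_
      have h0 : a.comp (Ext.mk₀ ((ModuleCat.of R M).smulShortComplex x).f) (add_zero _) = 0 := by
        rw [ModuleCat.smulShortComplex_f_eq_smul_id]
        exact (Ext.smul_eq_comp_mk₀ a x).symm.trans (smul_ext_quotient_eq_zero hx a)
      obtain ⟨b, rfl⟩ := Ext.covariant_sequence_exact₁ _ hS a h0 rfl
      have hb : b = 0 := @Subsingleton.elim _ (h i (Nat.lt_of_succ_lt_succ hi)) b 0
      rw [hb, Ext.zero_comp]; rfl
  · intro h i hi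
    refine subsingleton_of_forall_eq 0 fun a => ?_
    have h1 : a.comp hS.extClass rfl = 0 := @Subsingleton.elim _ (h (i + 1) (Nat.succ_lt_succ hi)) _ _
    obtain ⟨b, hb⟩ := Ext.covariant_sequence_exact₃ _ hS a rfl h1
    have hb0 : b = 0 := @Subsingleton.elim _ (h i (Nat.lt_succ_of_lt hi)) b 0
    rw [← hb, hb0, Ext.zero_comp]; rfl

theorem idealDepth_quotSMulTop_add_one [Module.Finite R M] {x : R} (hx : x ∈ I)
    (hreg : IsSMulRegular M x) :
    LocCoh.idealDepth I (QuotSMulTop x M) + 1 = LocCoh.idealDepth I M := by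
  refine ENat.eq_of_forall_natCast_le_iff fun n => ?_
  cases n with
  | zero => simp
  | succ n =>
    rw [← natCast_le_idealDepth_quotSMulTop_iff hx hreg, Nat.cast_succ]
    exact ENat.add_le_add_iff_right ENat.one_ne_top

theorem idealDepth_shortExact {S : ShortComplex (ModuleCat.{u} R)} (hS : S.ShortExact)
    [Module.Finite R S.X₁] [Module.Finite R S.X₂] [Module.Finite R S.X₃] :
    min (LocCoh.idealDepth I S.X₁) (LocCoh.idealDepth I S.X₃) ≤ LocCoh.idealDepth I S.X₂ ∧
      min (LocCoh.idealDepth I S.X₂) (LocCoh.idealDepth I S.X₁ - 1) ≤ LocCoh.idealDepth I S.X₃ ∧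
      min (LocCoh.idealDepth I S.X₂) (LocCoh.idealDepth I S.X₃ + 1) ≤ LocCoh.idealDepth I S.X₁ := by
  refine ⟨?_, ?_, ?_⟩
  · refine ENat.forall_natCast_le_iff_le.1 fun n hn => ?_
    rw [le_min_iff] at hn
    refine (natCast_le_idealDepth_iff n).2 fun i hi => subsingleton_of_forall_eq 0 fun a => ?_
    obtain ⟨b, hb⟩ := Ext.covariant_sequence_exact₂ _ hS a
      (@Subsingleton.elim _ ((natCast_le_idealDepth_iff n).1 hn.2 i hi) _ _)
    have hb0 : b = 0 := @Subsingleton.elim _ ((natCast_le_idealDepth_iff n).1 hn.1 i hi) b 0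
    rw [← hb, hb0, Ext.zero_comp]
  · refine ENat.forall_natCast_le_iff_le.1 fun n hn => ?_
    rw [le_min_iff] at hn
    refine (natCast_le_idealDepth_iff n).2 fun i hi => subsingleton_of_forall_eq 0 fun a => ?_
    have h1 : ((n + 1 : ℕ) : ℕ∞) ≤ LocCoh.idealDepth I S.X₁ := by
      rw [Nat.cast_succ]
      refine ((ENat.add_le_add_iff_right ENat.one_ne_top).2 hn.2).trans (le_of_eq ?_)
      refine tsub_add_cancel_of_le (le_of_not_gt fun h => ?_)
      rw [Order.lt_one_iff] at h
      rw [h, zero_tsub, ← Nat.cast_zero, Nat.cast_le] at hn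
      omega
    obtain ⟨b, hb⟩ := Ext.covariant_sequence_exact₃ _ hS a rfl
      (@Subsingleton.elim _ ((natCast_le_idealDepth_iff _).1 h1 (i + 1) (Nat.succ_lt_succ hi)) _ _)
    have hb0 : b = 0 := @Subsingleton.elim _ ((natCast_le_idealDepth_iff n).1 hn.1 i hi) b 0
    rw [← hb, hb0, Ext.zero_comp]
  · refine ENat.forall_natCast_le_iff_le.1 fun n hn => ?_
    rw [le_min_iff] at hn
    refine (natCast_le_idealDepth_iff n).2 fun i hi => subsingleton_of_forall_eq 0 fun a => ?_
    have h0 : a.comp (Ext.mk₀ S.f) (add_zero i) = 0 :=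
      @Subsingleton.elim _ ((natCast_le_idealDepth_iff n).1 hn.1 i hi) _ _
    cases i with
    | zero =>
      have := hS.mono_f
      exact Ext.postcomp_mk₀_injective_of_mono _ S.f (h0.trans (by simp))
    | succ i =>
      obtain ⟨b, rfl⟩ := Ext.covariant_sequence_exact₁ _ hS a h0 rfl
      have h3 : ((n - 1 : ℕ) : ℕ∞) ≤ LocCoh.idealDepth I S.X₃ := by
        refine (ENat.add_le_add_iff_right ENat.one_ne_top).1 ?_
        rw [← Nat.cast_add_one, Nat.sub_add_cancel (by omega)]
        exact hn.2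
      have hb0 : b = 0 := @Subsingleton.elim _ ((natCast_le_idealDepth_iff _).1 h3 i (by omega)) b 0
      rw [hb0, Ext.zero_comp]

end Groth.Agent.DepthLib
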