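import Groth.Agent.Lib.Depth.SkOps
import Mathlib

/-!
# The evaluation map of a finite module where a localization is reflexive
-/

namespace Groth.Agent.DepthLib

universe u

variable {A : Type u} [CommRing A] [IsNoetherianRing A]
  {G : Type u} [AddCommGroup G] [Module A G] [Module.Finite A G]

/-- If `S⁻¹ G` is reflexive, the kernel and cokernel of `G → G**` are killed by elements of `S`. -/
theorem eval_locally_bijective (S : Submonoid A)
    (h : Module.IsReflexive (Localization S) (LocalizedModule S G)) :
    (∀ x : G, Module.Dual.eval A G x = 0 → ∃ s ∈ S, s • x = 0) ∧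
      ∀ φ : Module.Dual A (Module.Dual A G),
        ∃ s ∈ S, s • φ ∈ LinearMap.range (Module.Dual.eval A G) := by
  have : Module.Finite A (Module.Dual A G) := Module.Finite.equiv (LinearEquiv.refl A _)
  have : Module.FinitePresentation A G := Module.finitePresentation_of_finite A G
  have : Module.FinitePresentation A (G →ₗ[A] A) := Module.finitePresentation_of_finite A _
  let mk := LocalizedModule.mkLinearMap S G
  let lm := Algebra.linearMap A (Localization S)
  let ι₁ : (G →ₗ[A] A) →ₗ[A] (LocalizedModule S G →ₗ[Localization S] Localization S) :=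
    IsLocalizedModule.mapExtendScalars S mk lm (Localization S)
  have : IsLocalizedModule S ι₁ :=
    Module.FinitePresentation.isLocalizedModule_mapExtendScalars S mk lm _
  let ι₂ : ((G →ₗ[A] A) →ₗ[A] A) →ₗ[A]
      ((LocalizedModule S G →ₗ[Localization S] Localization S) →ₗ[Localization S] Localization S) :=
    IsLocalizedModule.mapExtendScalars S ι₁ lm (Localization S)
  have : IsLocalizedModule S ι₂ :=
    Module.FinitePresentation.isLocalizedModule_mapExtendScalars S ι₁ lm _
  have h₁ : ∀ f x, ι₁ f (mk x) = algebraMap A (Localization S) (f x) := fun f x => by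
    simp [ι₁, lm, IsLocalizedModule.map_apply]
  have h₂ : ∀ φ f, ι₂ φ (ι₁ f) = algebraMap A (Localization S) (φ f) := fun φ f => by
    simp [ι₂, lm, IsLocalizedModule.map_apply]
  have hev : ∀ x, ι₂ (Module.Dual.eval A G x) =
      Module.Dual.eval (Localization S) (LocalizedModule S G) (mk x) := fun x => by
    refine LinearMap.ext fun ψ => ?_
    obtain ⟨⟨f, s⟩, hs⟩ := IsLocalizedModule.surj S ι₁ ψ
    apply (IsLocalization.map_units (Localization S) s).mul_left_cancel
    rw [← Algebra.smul_def, ← Algebra.smul_def, Submonoid.smul_def] at *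
    rw [← LinearMap.map_smul_of_tower, hs, h₂, ← LinearMap.map_smul_of_tower, hs]
    exact (h₁ f x).symm
  have hb := Module.bijective_dual_eval (Localization S) (LocalizedModule S G)
  refine ⟨fun x hx => ?_, fun φ => ?_⟩
  · have : mk x = 0 := hb.1 (by rw [← hev, hx, map_zero, map_zero])
    obtain ⟨s, hs⟩ := (IsLocalizedModule.eq_zero_iff S mk).1 this
    exact ⟨s, s.2, hs⟩
  · obtain ⟨y, hy⟩ := hb.2 (ι₂ φ)
    obtain ⟨⟨x, s⟩, hs⟩ := IsLocalizedModule.surj S mk y
    rw [Submonoid.smul_def] at hs
    have hx : ι₂ ((s : A) • φ) = ι₂ (Module.Dual.eval A G x) := by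
      rw [map_smul, hev, ← hy, ← hs, LinearMap.map_smul_of_tower]
    obtain ⟨c, hc⟩ := IsLocalizedModule.exists_of_eq (S := S) hx
    refine ⟨c * s, S.mul_mem c.2 s.2, c.1 • x, ?_⟩
    rw [map_smul, mul_smul, ← Submonoid.smul_def, ← Submonoid.smul_def c, hc]

end Groth.Agent.DepthLib
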