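import Groth.Agent.Lib.Depth.HomDepth
import Groth.Agent.Lib.Depth.ReflexiveLoc
import Groth.Agent.Lib.RefHull26.Algebra
import Mathlib

/-!
# Reflexive modules and depth
-/

namespace Groth.Agent.DepthLib

universe u

open IsLocalRing

variable {A : Type u} [CommRing A] [IsDomain A] [IsNoetherianRing A]
  {M : Type u} [AddCommGroup M] [Module A M] [Module.Finite A M]

/-- Homomorphisms into the ring commute with localization. -/
theorem exists_localized_dual_equiv (G : Type u) [AddCommGroup G] [Module A G] [Module.Finite A G]
    (p : Ideal A) [p.IsPrime] :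
    Nonempty (LocalizedModule p.primeCompl (G →ₗ[A] A) ≃ₗ[Localization.AtPrime p]
      (LocalizedModule p.primeCompl G →ₗ[Localization.AtPrime p] Localization.AtPrime p)) := by
  have : Module.FinitePresentation A G := Module.finitePresentation_of_finite A G
  let mk := LocalizedModule.mkLinearMap p.primeCompl G
  let lm := Algebra.linearMap A (Localization.AtPrime p)
  let ι : (G →ₗ[A] A) →ₗ[A]
      (LocalizedModule p.primeCompl G →ₗ[Localization.AtPrime p] Localization.AtPrime p) :=
    IsLocalizedModule.mapExtendScalars p.primeCompl mk lm (Localization.AtPrime p)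
  have : IsLocalizedModule p.primeCompl ι :=
    Module.FinitePresentation.isLocalizedModule_mapExtendScalars p.primeCompl mk lm _
  exact ⟨(IsLocalizedModule.iso p.primeCompl ι).extendScalarsOfIsLocalization p.primeCompl _⟩

theorem isReflexive_localizedModule [Module.IsReflexive A M] (p : Ideal A) [p.IsPrime] :
    Module.IsReflexive (Localization.AtPrime p) (LocalizedModule p.primeCompl M) := by
  have : Module.Finite A (Module.Dual A M) := RH26.finite_dual
  obtain ⟨e⟩ := exists_localized_dual_equiv (Module.Dual A M) p
  let e₀ : LocalizedModule p.primeCompl M ≃ₗ[Localization.AtPrime p]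
      LocalizedModule p.primeCompl (Module.Dual A M →ₗ[A] A) :=
    IsLocalizedModule.mapEquiv p.primeCompl (LocalizedModule.mkLinearMap p.primeCompl M)
      (LocalizedModule.mkLinearMap p.primeCompl _) (Localization.AtPrime p) (Module.evalEquiv A M)
  have : Module.Finite (Localization.AtPrime p) (LocalizedModule p.primeCompl (Module.Dual A M)) :=
    Module.Finite.of_isLocalizedModule p.primeCompl (LocalizedModule.mkLinearMap p.primeCompl _)
  have := RH26.isReflexive_dual (R := Localization.AtPrime p)
    (M := LocalizedModule p.primeCompl (Module.Dual A M))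
  exact Module.equiv (e₀.trans e).symm

/-- If a localization has depth at least two, evaluation is surjective at `p` on elements
multiplied into the image by `p`. -/
theorem exists_notMem_smul_mem_range_of_two_le_depth {N : Type u} [AddCommGroup N] [Module A N]
    [Module.IsTorsionFree A N] (f : M →ₗ[A] N) (hf : Function.Injective f) (p : Ideal A) [p.IsPrime]
    (hd : 2 ≤ LocCoh.depth (Localization.AtPrime p) (LocalizedModule p.primeCompl M))
    (hM : Nontrivial (LocalizedModule p.primeCompl M))
    (φ : N) (hφ : ∀ y ∈ p, y • φ ∈ LinearMap.range f) :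
    ∃ s ∈ p.primeCompl, s • φ ∈ LinearMap.range f := by
  have : Module.IsTorsionFree A M := hf.moduleIsTorsionFree f (map_smul f)
  let P := LocalizedModule p.primeCompl M
  have hne : (maximalIdeal (Localization.AtPrime p)) • (⊤ : Submodule (Localization.AtPrime p) P) ≠ ⊤ :=
    smul_top_ne_top (maximalIdeal.isMaximal _).ne_top
  have h1 : 1 ≤ LocCoh.depth (Localization.AtPrime p) P := le_trans (by norm_num) hd
  obtain ⟨x', hx', hx'reg⟩ := exists_isSMulRegular_of_one_le_idealDepth hne h1
  obtain ⟨⟨x, t⟩, hxt⟩ := IsLocalization.surj p.primeCompl x'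
  obtain ⟨w, hw⟩ : IsUnit (algebraMap A (Localization.AtPrime p) t) := IsLocalization.map_units _ t
  have hxp : x ∈ p := by
    by_contra hxp
    have : IsUnit (algebraMap A (Localization.AtPrime p) x) := IsLocalization.map_units _ (⟨x, hxp⟩ : p.primeCompl)
    rw [← hxt] at this
    exact hx' (isUnit_of_mul_isUnit_left this)
  have hxmem : algebraMap A (Localization.AtPrime p) x ∈ maximalIdeal (Localization.AtPrime p) := by
    rw [← hxt]; exact Ideal.mul_mem_right _ _ hx'
  have hxreg : IsSMulRegular P (algebraMap A (Localization.AtPrime p) x) := by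
    rw [← hxt]; exact hx'reg.mul (hw ▸ (Units.isSMulRegular P w))
  have h2 : 1 ≤ LocCoh.idealDepth (maximalIdeal (Localization.AtPrime p))
      (QuotSMulTop (algebraMap A (Localization.AtPrime p) x) P) := by
    have := (natCast_le_idealDepth_quotSMulTop_iff hxmem hxreg (n := 1)).2 (by exact_mod_cast hd)
    exact_mod_cast this
  obtain ⟨m, hm⟩ := hφ x hxp
  let q : P →ₗ[Localization.AtPrime p] QuotSMulTop (algebraMap A (Localization.AtPrime p) x) P :=
    Submodule.mkQ _
  have hzero : q (LocalizedModule.mkLinearMap p.primeCompl M m) = 0 := by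
    by_cases hne' : (maximalIdeal (Localization.AtPrime p)) •
        (⊤ : Submodule (Localization.AtPrime p) (QuotSMulTop (algebraMap A (Localization.AtPrime p) x) P)) = ⊤
    · have := Submodule.eq_bot_of_le_smul_of_le_jacobson_bot _ ⊤ Module.Finite.fg_top hne'.ge
        (maximalIdeal_le_jacobson _)
      exact (Submodule.eq_bot_iff _).1 this _ trivial
    · obtain ⟨y', hy', hyreg⟩ := exists_isSMulRegular_of_one_le_idealDepth hne' h2
      apply hyreg
      show y' • q (LocalizedModule.mkLinearMap p.primeCompl M m) = y' • 0
      rw [smul_zero, ← map_smul]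
      obtain ⟨⟨y, t'⟩, hyt⟩ := IsLocalization.surj p.primeCompl y'
      obtain ⟨w', hw'⟩ : IsUnit (algebraMap A (Localization.AtPrime p) t') := IsLocalization.map_units _ t'
      have hyp : y ∈ p := by
        by_contra hyp
        have : IsUnit (algebraMap A (Localization.AtPrime p) y) := IsLocalization.map_units _ (⟨y, hyp⟩ : p.primeCompl)
        rw [← hyt] at this
        exact hy' (isUnit_of_mul_isUnit_left this)
      obtain ⟨m', hm'⟩ := hφ y hyp
      have hym : y • m = x • m' := hf (by rw [map_smul, map_smul, hm, hm', smul_comm])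
      have : y' • LocalizedModule.mkLinearMap p.primeCompl M m =
          algebraMap A (Localization.AtPrime p) x • ((w'⁻¹ : (Localization.AtPrime p)ˣ) : Localization.AtPrime p) •
            LocalizedModule.mkLinearMap p.primeCompl M m' := by
        have hy'' : y' = ((w'⁻¹ : (Localization.AtPrime p)ˣ) : Localization.AtPrime p) *
            algebraMap A (Localization.AtPrime p) y := by
          rw [← hyt, ← hw', mul_comm y', ← mul_assoc, Units.inv_mul, one_mul]
        rw [hy'', mul_smul, algebraMap_smul, ← map_smul, hym, map_smul, smul_comm, algebraMap_smul]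
      rw [this, map_smul]
      exact (Submodule.Quotient.mk_eq_zero _).2 (Submodule.smul_mem_pointwise_smul _ _ _ trivial)
  obtain ⟨z, -, hz⟩ := (Submodule.Quotient.mk_eq_zero _).1 hzero
  obtain ⟨⟨m₁, s⟩, hs⟩ := IsLocalizedModule.surj p.primeCompl (LocalizedModule.mkLinearMap p.primeCompl M) z
  have hmk : LocalizedModule.mkLinearMap p.primeCompl M ((s : A) • m) =
      LocalizedModule.mkLinearMap p.primeCompl M (x • m₁) := by
    rw [map_smul, map_smul, ← hs, ← hz, Submonoid.smul_def]
    show (s : A) • (algebraMap A (Localization.AtPrime p) x • z) = x • (s : A) • z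
    rw [algebraMap_smul, smul_comm]
  obtain ⟨c, hc⟩ := IsLocalizedModule.exists_of_eq (S := p.primeCompl) hmk
  refine ⟨(c : A) * s, p.primeCompl.mul_mem c.2 s.2, (c : A) • m₁, ?_⟩
  have hx0 : x ≠ 0 := by
    rintro rfl
    rw [map_zero] at hxreg
    exact not_subsingleton P (IsSMulRegular.subsingleton hxreg)
  refine (smul_right_injective N hx0) ?_
  show x • f ((c : A) • m₁) = x • ((c : A) * s) • φ
  rw [← map_smul, smul_comm x (c : A), smul_comm x ((c : A) * s), ← hm, ← map_smul, mul_smul]
  exact congrArg f hc.symm

/-- Reflexive if at every prime reflexive or of depth at least two. -/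
theorem isReflexive_of_forall_localization_or_depth
    (h : ∀ (p : Ideal A) [p.IsPrime],
      Module.IsReflexive (Localization.AtPrime p) (LocalizedModule p.primeCompl M) ∨
        2 ≤ LocCoh.depth (Localization.AtPrime p) (LocalizedModule p.primeCompl M)) :
    Module.IsReflexive A M := by
  have hinj : Function.Injective (Module.Dual.eval A M) := by
    rw [← LinearMap.ker_eq_bot]
    by_contra hK
    have : Nontrivial (LinearMap.ker (Module.Dual.eval A M)) := Submodule.nontrivial_iff_ne_bot.2 hK
    obtain ⟨p, hp⟩ := associatedPrimes.nonempty A (LinearMap.ker (Module.Dual.eval A M))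
    obtain ⟨hpr, k, hk⟩ := isAssociatedPrime_iff.1 hp
    have hkp : ∀ a : A, a ∈ p ↔ a • (k : M) = 0 := fun a => by
      rw [hk, Submodule.mem_colon_singleton, Submodule.mem_bot, ← Submodule.coe_smul,
        Submodule.coe_eq_zero]
    haveI := hpr
    rcases h p with hr | hd
    · obtain ⟨s, hs, hsk⟩ := (eval_locally_bijective (G := M) p.primeCompl hr).1 k (LinearMap.mem_ker.1 k.2)
      exact hs ((hkp s).2 hsk)
    · have hmk : LocalizedModule.mkLinearMap p.primeCompl M (k : M) ≠ 0 := fun h0 => by
        obtain ⟨s, hs⟩ := (IsLocalizedModule.eq_zero_iff p.primeCompl _).1 h0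
        exact s.2 ((hkp s).2 hs)
      haveI : Nontrivial (LocalizedModule p.primeCompl M) := ⟨_, _, hmk⟩
      obtain ⟨x', hx', hreg⟩ := exists_isSMulRegular_of_one_le_idealDepth
        (smul_top_ne_top (maximalIdeal.isMaximal (Localization.AtPrime p)).ne_top)
        (le_trans (by norm_num) hd : 1 ≤ LocCoh.depth (Localization.AtPrime p) (LocalizedModule p.primeCompl M))
      obtain ⟨⟨x, t⟩, hxt⟩ := IsLocalization.surj p.primeCompl x'
      have hxp : x ∈ p := by
        by_contra hxp
        have : IsUnit (algebraMap A (Localization.AtPrime p) x) :=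
          IsLocalization.map_units _ (⟨x, hxp⟩ : p.primeCompl)
        rw [← hxt] at this
        exact hx' (isUnit_of_mul_isUnit_left this)
      apply hmk
      have h3 : algebraMap A (Localization.AtPrime p) t • LocalizedModule.mkLinearMap p.primeCompl M (k : M) = 0 := by
        apply hreg
        show x' • _ = x' • (0 : LocalizedModule p.primeCompl M)
        rw [smul_zero, smul_smul, hxt, algebraMap_smul, ← map_smul, (hkp x).1 hxp, map_zero]
      exact (IsLocalization.map_units _ t).smul_eq_zero.1 h3
  have hD : Module.IsTorsionFree A (Module.Dual A (Module.Dual A M)) := inferInstance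
  refine ⟨hinj, LinearMap.range_eq_top.1 ?_⟩
  by_contra hC
  have : Nontrivial ((Module.Dual A (Module.Dual A M)) ⧸ LinearMap.range (Module.Dual.eval A M)) :=
    Submodule.Quotient.nontrivial_iff.2 hC
  have : Module.Finite A (Module.Dual A M) := RH26.finite_dual
  have : Module.Finite A (Module.Dual A (Module.Dual A M)) := RH26.finite_dual
  obtain ⟨p, hp⟩ := associatedPrimes.nonempty A
    ((Module.Dual A (Module.Dual A M)) ⧸ LinearMap.range (Module.Dual.eval A M))
  obtain ⟨hpr, c, hc⟩ := isAssociatedPrime_iff.1 hp
  obtain ⟨φ, rfl⟩ := Submodule.Quotient.mk_surjective _ c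
  have hφ : ∀ a : A, a ∈ p ↔ a • φ ∈ LinearMap.range (Module.Dual.eval A M) := fun a => by
    rw [hc, Submodule.mem_colon_singleton, Submodule.mem_bot, ← Submodule.Quotient.mk_smul,
      Submodule.Quotient.mk_eq_zero]
  haveI := hpr
  rcases h p with hr | hd
  · obtain ⟨s, hs, hsφ⟩ := (eval_locally_bijective (G := M) p.primeCompl hr).2 φ
    exact hs ((hφ s).2 hsφ)
  · rcases subsingleton_or_nontrivial (LocalizedModule p.primeCompl M) with hP | hP
    · have : Module.IsTorsionFree A M := hinj.moduleIsTorsionFree _ (map_smul _)
      have hsub : Subsingleton M := subsingleton_of_forall_eq 0 fun m => by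
        obtain ⟨s, hs⟩ := (IsLocalizedModule.eq_zero_iff p.primeCompl
          (LocalizedModule.mkLinearMap p.primeCompl M)).1 (Subsingleton.elim _ 0 : LocalizedModule.mkLinearMap p.primeCompl M m = 0)
        exact (smul_eq_zero.1 hs).resolve_left fun h0 => s.2 (show (s : A) ∈ p from by rw [h0]; exact p.zero_mem)
      refine hpr.ne_top ((Ideal.eq_top_iff_one _).2 ((hφ 1).2 ?_))
      have : φ = 0 := LinearMap.ext fun f => by
        rw [show f = 0 from LinearMap.ext fun m => by rw [Subsingleton.elim m 0, map_zero, map_zero]]
        simp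
      rw [this, smul_zero]
      exact zero_mem _
    · obtain ⟨s, hs, hsφ⟩ := exists_notMem_smul_mem_range_of_two_le_depth _ hinj p hd hP φ fun y hy => (hφ y).1 hy
      exact hs ((hφ s).2 hsφ)

end Groth.Agent.DepthLib
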