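import Mathlib.RingTheory.Ideal.KrullsHeightTheorem
import Mathlib.RingTheory.Ideal.Operations
import Mathlib.RingTheory.KrullDimension.Basic

/-!
# Primes between two primes, and generators up to radical
-/

universe u

namespace Groth.Agent.DepthLib

variable {R : Type u} [CommRing R]

/-- No prime lies strictly between a prime and a prime minimal over it plus one element. -/
theorem not_lt_lt_of_mem_minimalPrimes [IsNoetherianRing R] {s p t : Ideal R} [s.IsPrime] [p.IsPrime]
    {b : R} (ht : t ∈ (s ⊔ Ideal.span {b}).minimalPrimes) (hsp : s < p) : ¬ p < t := by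
  intro hpt
  have htp : t.IsPrime := ht.isPrime
  let π := Ideal.Quotient.mk s
  have hsur : Function.Surjective π := Ideal.Quotient.mk_surjective
  have hker : RingHom.ker π = s := Ideal.mk_ker
  have hst : s ≤ t := le_sup_left.trans ht.1.2
  have hcomap : (t.map π).comap π = t := by
    rw [Ideal.comap_map_of_surjective π hsur, ← RingHom.ker_eq_comap_bot, hker, sup_eq_left.2 hst]
  have hmem : t.map π ∈ (Ideal.span {π b}).minimalPrimes := by
    have := ht
    rw [show s ⊔ Ideal.span {b} = (Ideal.span {π b}).comap π by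
      rw [← Set.image_singleton, ← Ideal.map_span, Ideal.comap_map_of_surjective π hsur,
        ← RingHom.ker_eq_comap_bot, hker, sup_comm],
      Ideal.comap_minimalPrimes_eq_of_surjective hsur] at this
    obtain ⟨q, hq, rfl⟩ := this
    rwa [Ideal.map_comap_of_surjective π hsur]
  have hp' : (p.map π).IsPrime := Ideal.map_isPrime_of_surjective hsur (hker.le.trans hsp.le)
  have hbot : (⊥ : Ideal (R ⧸ s)).IsPrime := Ideal.isPrime_bot
  have : (t.map π).IsPrime := hmem.isPrime
  have hcp : (p.map π).comap π = p := by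
    rw [Ideal.comap_map_of_surjective π hsur, ← RingHom.ker_eq_comap_bot, hker, sup_eq_left.2 hsp.le]
  have h1 : (⊥ : Ideal (R ⧸ s)) < p.map π := by
    refine bot_lt_iff_ne_bot.2 fun h => hsp.ne ?_
    rw [← hcp, h, ← RingHom.ker_eq_comap_bot, hker]
  have h2 : p.map π < t.map π := lt_of_le_of_ne (Ideal.map_mono hpt.le) fun h => hpt.ne <| by
    rw [← hcp, h, hcomap]
  have h3 := Ideal.height_le_one_of_isPrincipal_of_mem_minimalPrimes (Ideal.span {π b}) (t.map π) hmem
  have h4 := Ideal.height_strict_mono_of_isPrime h1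
  have h5 := Ideal.height_strict_mono_of_isPrime h2
  have h6 : (1 : ℕ∞) ≤ (p.map π).height :=
    Order.one_le_iff_pos.2 (lt_of_le_of_lt zero_le h4)
  exact absurd (h5.trans_le h3) (not_lt.2 h6)

/-- If some prime lies strictly between `s` and `q`, one of them misses a given element outside `s`. -/
theorem exists_prime_between_not_mem [IsNoetherianRing R] {s q : Ideal R} [s.IsPrime] [q.IsPrime]
    (hsq : s < q) (hq : ∃ p : Ideal R, p.IsPrime ∧ s < p ∧ p < q)
    {a : R} (haq : a ∈ q) (has : a ∉ s) :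
    ∃ t : Ideal R, t.IsPrime ∧ s < t ∧ t < q ∧ a ∉ t := by
  have hnot : ∀ b : R, q ∉ (s ⊔ Ideal.span {b}).minimalPrimes := by
    intro b h
    obtain ⟨p, hp, hsp, hpq⟩ := hq
    exact not_lt_lt_of_mem_minimalPrimes h hsp hpq
  have hfin := Ideal.finite_minimalPrimes_of_isNoetherianRing R (s ⊔ Ideal.span {a})
  obtain ⟨b, hbq, hb⟩ : ∃ b ∈ q, ∀ p ∈ (s ⊔ Ideal.span {a}).minimalPrimes, b ∉ p := by
    by_contra! h
    have hsub : (q : Set R) ⊆ ⋃ p ∈ ↑hfin.toFinset, ((id p : Ideal R) : Set R) := by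
      intro x hx
      obtain ⟨p, hp, hxp⟩ := h x hx
      exact Set.mem_iUnion₂.2 ⟨p, hfin.mem_toFinset.2 hp, hxp⟩
    obtain ⟨p, hp, hle⟩ := (Ideal.subset_union_prime (f := id) (⊥ : Ideal R) ⊥
      fun p hp _ _ => (hfin.mem_toFinset.1 hp).isPrime).1 hsub
    rw [hfin.mem_toFinset] at hp
    have hge : s ⊔ Ideal.span {a} ≤ q := sup_le hsq.le ((Ideal.span_singleton_le_iff_mem _).2 haq)
    exact hnot a (le_antisymm hle (hp.2 ⟨inferInstance, hge⟩ hle) ▸ hp)
  obtain ⟨t, ht, htq⟩ := Ideal.exists_minimalPrimes_le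
    (sup_le hsq.le ((Ideal.span_singleton_le_iff_mem _).2 hbq))
  have htp : t.IsPrime := ht.isPrime
  have hst : s ≤ t := le_sup_left.trans ht.1.2
  have hbt : b ∈ t := ht.1.2 (Ideal.mem_sup_right (Ideal.mem_span_singleton_self b))
  obtain ⟨p₀, hp₀, -⟩ := Ideal.exists_minimalPrimes_le
    (sup_le hsq.le ((Ideal.span_singleton_le_iff_mem _).2 haq))
  refine ⟨t, htp, lt_of_le_of_ne hst fun h => hb p₀ hp₀ ?_, lt_of_le_of_ne htq fun h => hnot b (h ▸ ht),
    fun hat => ?_⟩
  · exact (le_sup_left.trans hp₀.1.2) (h ▸ hbt)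
  · obtain ⟨p, hp, hpt⟩ := Ideal.exists_minimalPrimes_le
      (sup_le hst ((Ideal.span_singleton_le_iff_mem _).2 hat))
    have hpp : p.IsPrime := hp.isPrime
    have hsp : s < p := lt_of_le_of_ne (le_sup_left.trans hp.1.2) fun h =>
      has (h ▸ hp.1.2 (Ideal.mem_sup_right (Ideal.mem_span_singleton_self a)))
    exact not_lt_lt_of_mem_minimalPrimes ht hsp (lt_of_le_of_ne hpt fun h => hb p hp (h ▸ hbt))

/-- Elements of `I` cutting out `V(I)` up to height `r`. -/
theorem exists_fin_mem_cutting [IsNoetherianRing R] (I : Ideal R) (r : ℕ) :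
    ∃ f : Fin r → R, (∀ i, f i ∈ I) ∧
      ∀ (p : Ideal R) [p.IsPrime], Ideal.span (Set.range f) ≤ p → ¬ I ≤ p → (r : ℕ∞) ≤ p.height := by
  induction r with
  | zero => exact ⟨Fin.elim0, fun i => i.elim0, fun p _ _ _ => by simp⟩
  | succ r ih =>
    obtain ⟨f, hfI, hf⟩ := ih
    have hfin := (Ideal.finite_minimalPrimes_of_isNoetherianRing R (Ideal.span (Set.range f))).subset
      (Set.sep_subset _ fun p => ¬ I ≤ p)
    obtain ⟨g, hgI, hg⟩ : ∃ g ∈ I, ∀ p ∈ (Ideal.span (Set.range f)).minimalPrimes, ¬ I ≤ p → g ∉ p := by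
      by_contra! h
      have hsub : (I : Set R) ⊆ ⋃ p ∈ ↑hfin.toFinset, ((id p : Ideal R) : Set R) := by
        intro x hx
        obtain ⟨p, hp, hp', hxp⟩ := h x hx
        exact Set.mem_iUnion₂.2 ⟨p, hfin.mem_toFinset.2 ⟨hp, hp'⟩, hxp⟩
      obtain ⟨p, hp, hle⟩ := (Ideal.subset_union_prime (f := id) (⊥ : Ideal R) ⊥
        fun p hp _ _ => (hfin.mem_toFinset.1 hp).1.isPrime).1 hsub
      exact (hfin.mem_toFinset.1 hp).2 hle
    refine ⟨Fin.cons g f, fun i => Fin.cases hgI hfI i, fun p _ hp hI => ?_⟩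
    have hle : Ideal.span (Set.range f) ≤ p := by
      refine le_trans (Ideal.span_mono ?_) hp
      rintro _ ⟨i, rfl⟩
      exact ⟨i.succ, Fin.cons_succ _ _ i⟩
    obtain ⟨q, hq, hqp⟩ := Ideal.exists_minimalPrimes_le hle
    have := hq.isPrime
    have hqI : ¬ I ≤ q := fun h => hI (h.trans hqp)
    have hlt : q < p := lt_of_le_of_ne hqp fun h => hg q hq hqI
      (h ▸ hp (Ideal.subset_span ⟨0, Fin.cons_zero _ _⟩))
    rw [Nat.cast_succ]
    calc (r : ℕ∞) + 1 ≤ q.height + 1 := add_le_add_left (hf q hq.1.2 hqI) 1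
      _ ≤ p.height := Order.add_one_le_of_lt (Ideal.height_strict_mono_of_isPrime hlt)

end Groth.Agent.DepthLib
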