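import Mathlib.Algebra.Category.ModuleCat.Ext.Basic
import Mathlib.Algebra.Homology.DerivedCategory.Ext.ExactSequences
import Mathlib.Algebra.Homology.DerivedCategory.Ext.Linear
import Mathlib.RingTheory.Regular.Category
import Mathlib.RingTheory.Regular.RegularSequence
import Mathlib.RingTheory.Ideal.Maps

/-!
# `Ext` below the length of a weakly regular sequence
-/

universe u

open CategoryTheory Abelian RingTheory.Sequence Pointwise

namespace Groth.Agent.DepthLib

variable {R : Type u} [CommRing R]

/-- If powers of all terms of a weakly regular sequence kill `N`, low `Ext` vanishes. -/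
theorem subsingleton_ext_of_isWeaklyRegular {rs : List R} {M : Type u} [AddCommGroup M] [Module R M]
    (h : IsWeaklyRegular M rs) (N : ModuleCat.{u} R)
    (hN : ∀ r ∈ rs, ∃ k : ℕ, r ^ k ∈ Module.annihilator R N) {i : ℕ} (hi : i < rs.length) :
    Subsingleton (Ext N (ModuleCat.of R M) i) := by
  induction h using IsWeaklyRegular.recIterModByRegular generalizing i with
  | nil M => simp at hi
  | @cons M _ _ r rs h1 h2 ih =>
    obtain ⟨k, hk⟩ := hN r List.mem_cons_self
    have hS := IsSMulRegular.smulShortComplex_shortExact (M := ModuleCat.of R M) h1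
    have hinj : ∀ a : Ext N (ModuleCat.of R M) i, r • a = 0 → a = 0 := by
      intro a ha
      have ha' : a.comp (Ext.mk₀ ((ModuleCat.of R M).smulShortComplex r).f) (add_zero _) = 0 := by
        rw [ModuleCat.smulShortComplex_f_eq_smul_id]
        exact (Ext.smul_eq_comp_mk₀ a r).symm.trans ha
      cases i with
      | zero =>
        have := hS.mono_f
        exact Ext.postcomp_mk₀_injective_of_mono (hf := hS.mono_f) _ _ (ha'.trans (map_zero _).symm)
      | succ j =>
        obtain ⟨b, rfl⟩ := Ext.covariant_sequence_exact₁ _ hS a ha' rfl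
        have := ih (fun s hs => hN s (List.mem_cons_of_mem r hs))
          (i := j) (by simpa using hi)
        rw [show b = 0 from this.elim b 0, Ext.zero_comp]; rfl
    refine subsingleton_of_forall_eq 0 fun a => ?_
    have h0 : r ^ k • a = 0 := by
      have : r ^ k • 𝟙 N = 0 := by ext m; exact Module.mem_annihilator.1 hk m
      rw [← Ext.mk₀_id_comp a, ← Ext.smul_comp, ← Ext.mk₀_smul, this, Ext.mk₀_zero, Ext.zero_comp]
    clear hk
    induction k generalizing a with
    | zero => simpa using h0
    | succ k ihk =>
      exact hinj a (ihk (r • a) (by rwa [smul_smul, ← pow_succ]))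

end Groth.Agent.DepthLib
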